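import Cfsg.Agent.TwoDegrees73.Basic
import Cfsg.Agent.GaloisAverage.Ito

/-!
# Groups with degree set `{1, p}`

In a nilpotent group with degrees `1, p` and no abelian normal subgroup of index `p` the dual of a
maximal abelian normal subgroup is moved into a single central character of order `p`; this forces
`|G : Z(G)| = p ^ 3`.
-/

set_option autoImplicit false
set_option linter.style.haveILetI false
set_option linter.unusedSectionVars false

namespace CfsgLib.TwoDegrees73

open CfsgLib.Characters CfsgLib.OddOrderChar CfsgLib.CharactersDeep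
open scoped ComplexConjugate commutatorElement

universe u

variable {G : Type u} [Group G] [Fintype G]

/-- The square of a degree is at most the index of the centre. -/
theorem sq_degree_le_index_center {χ : G → ℂ} (hχ : Cfsg.IsIrrCharacter G χ) {d : ℕ}
    (hd : χ 1 = d) : d ^ 2 ≤ (Subgroup.center G).index := by
  classical
  have h := classInner_isIrr_self hχ
  obtain ⟨n, ρ, hρ, rfl⟩ := hχ
  haveI := hρ
  have hn : n = d := by
    rw [Representation.char_one, Module.finrank_fin_fun] at hd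
    exact_mod_cast hd
  subst hn
  have hterm : ∀ z ∈ Subgroup.center G,
      (ρ.character z * conj (ρ.character z)).re = (n : ℝ) ^ 2 := by
    intro z hz
    obtain ⟨c, hc⟩ := central_scalar ρ hz
    rcases Nat.eq_zero_or_pos n with rfl | hn0
    · simp [Representation.character, Subsingleton.elim (ρ z) 0]
    have hchar : ρ.character z = c * n := by
      simp [Representation.character, hc, LinearMap.trace_id]
    have hpow : c ^ Nat.card G = 1 := by
      have h1 : (ρ z) ^ Nat.card G = 1 := by rw [← map_pow, pow_card_eq_one', map_one]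
      rw [hc] at h1
      change (c • (1 : Module.End ℂ (Fin n → ℂ))) ^ Nat.card G = 1 at h1
      rw [smul_pow, one_pow] at h1
      have h2 := congrFun (LinearMap.congr_fun h1 fun _ => 1) ⟨0, hn0⟩
      simpa using h2
    have hc1 : ‖c‖ = 1 := Complex.norm_eq_one_of_pow_eq_one hpow Nat.card_pos.ne'
    rw [hchar, Complex.mul_conj']
    rw [norm_mul, hc1, Complex.norm_natCast, one_mul, ← Complex.ofReal_pow, Complex.ofReal_re]
  have hsum : (∑ g : G, (ρ.character g * conj (ρ.character g)).re) = (Nat.card G : ℝ) := by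
    rw [← Complex.re_sum]
    have h1 : ∑ g : G, ρ.character g * conj (ρ.character g) = (Nat.card G : ℂ) := by
      rw [Cfsg.classInner, inv_mul_eq_iff_eq_mul₀ (natCard_ne_zero (G := G)), mul_one] at h
      exact h
    rw [h1, Complex.natCast_re]
  have hle : (Nat.card (Subgroup.center G) : ℝ) * (n : ℝ) ^ 2 ≤ (Nat.card G : ℝ) := by
    rw [← hsum]
    have hcard : (Finset.univ.filter fun g : G => g ∈ Subgroup.center G).card =
        Nat.card (Subgroup.center G) := by
      rw [← Fintype.card_subtype, ← Nat.card_eq_fintype_card]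
    calc (Nat.card (Subgroup.center G) : ℝ) * (n : ℝ) ^ 2
        = ∑ g ∈ Finset.univ.filter (fun g : G => g ∈ Subgroup.center G),
            (ρ.character g * conj (ρ.character g)).re := by
          rw [Finset.sum_congr rfl fun g hg => hterm g (Finset.mem_filter.mp hg).2,
            Finset.sum_const, hcard, nsmul_eq_mul]
      _ ≤ _ := by
          refine Finset.sum_le_univ_sum_of_nonneg fun g => ?_
          rw [Complex.mul_conj, Complex.ofReal_re]
          exact Complex.normSq_nonneg _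
  rw [← (Subgroup.center G).card_mul_index, Nat.cast_mul] at hle
  have hpos : (0 : ℝ) < Nat.card (Subgroup.center G) := by exact_mod_cast Nat.card_pos
  exact_mod_cast le_of_mul_le_mul_left hle hpos

/-- Homomorphisms trivial on a subgroup of an abelian group detect it. -/
theorem mem_of_forall_hom {A : Type u} [Group A] [Finite A] [IsMulCommutative A] {S : Subgroup A}
    {a : A} (h : ∀ lam : A →* ℂˣ, (∀ s ∈ S, lam s = 1) → lam a = 1) : a ∈ S := by
  haveI : S.Normal := ⟨fun s hs b => by rwa [mul_comm' b s, mul_inv_cancel_right]⟩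
  haveI : IsMulCommutative (A ⧸ S) := ⟨⟨fun x y => by
    induction x using QuotientGroup.induction_on with | _ x =>
    induction y using QuotientGroup.induction_on with | _ y =>
    rw [← QuotientGroup.mk_mul, ← QuotientGroup.mk_mul, mul_comm' x y]⟩⟩
  rw [← QuotientGroup.eq_one_iff]
  refine eq_of_forall_hom fun lam => ?_
  rw [map_one]
  refine h (lam.comp (QuotientGroup.mk' S)) fun s hs => ?_
  rw [MonoidHom.comp_apply, QuotientGroup.mk'_apply, (QuotientGroup.eq_one_iff s).mpr hs, map_one]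

theorem mem_of_zpow_mem_of_pow_eq_one {A : Type*} [Group A] {p : ℕ} (hp : p.Prime) {S : Subgroup A}
    {a : A} (ha : a ^ p = 1) {k : ℤ} (hk : ¬ (p : ℤ) ∣ k) (hmem : a ^ k ∈ S) : a ∈ S := by
  obtain ⟨s, t, hst⟩ := (Int.prime_iff_natAbs_prime.mpr (by simpa using hp) :
    Prime (p : ℤ)).coprime_iff_not_dvd.mpr hk
  have h : a = (a ^ k) ^ t := by
    conv_lhs => rw [← zpow_one a, ← hst, zpow_add, mul_comm s, zpow_mul, zpow_natCast, ha,
      one_zpow, one_mul, mul_comm t, zpow_mul]
  rw [h]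
  exact S.zpow_mem hmem t

theorem exchange {A : Type*} [CommGroup A] {p : ℕ} (hp : p.Prime) {a b c : A} (hb : b ^ p = 1)
    (hc : c ^ p = 1) (h : b ∈ Subgroup.closure {a, c}) (hna : b ∉ Subgroup.zpowers a) :
    c ∈ Subgroup.closure {a, b} := by
  obtain ⟨i, j, rfl⟩ := Subgroup.mem_closure_pair.mp h
  by_cases hj : (p : ℤ) ∣ j
  · obtain ⟨r, rfl⟩ := hj
    exfalso
    apply hna
    rw [zpow_mul, zpow_natCast, hc, one_zpow, mul_one]
    exact zpow_mem (Subgroup.mem_zpowers a) i
  · refine mem_of_zpow_mem_of_pow_eq_one hp hc hj ?_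
    have h1 := mul_mem (inv_mem (zpow_mem
        (Subgroup.subset_closure (Set.mem_insert a ({a ^ i * c ^ j} : Set A))) i))
      (Subgroup.subset_closure (Set.mem_insert_of_mem a (Set.mem_singleton (a ^ i * c ^ j))) :
        a ^ i * c ^ j ∈ Subgroup.closure ({a, a ^ i * c ^ j} : Set A))
    rwa [inv_mul_cancel_left] at h1

theorem relation_aux {V : Type*} [AddCommGroup V] {a b c : V} {i j k l m n : ℤ}
    (h : i • a + j • b + (k • a + l • c) = m • a + (n • b + n • c)) :
    (j - n) • b = (m - i - k) • a + (n - l) • c ∧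
      (l - n) • c = (m - i - k) • a + (n - j) • b :=
  ⟨by linear_combination (norm := module) h, by linear_combination (norm := module) h⟩

theorem relation {A : Type*} [CommGroup A] {a b c : A} {i j k l m n : ℤ}
    (h : a ^ i * b ^ j * (a ^ k * c ^ l) = a ^ m * (b ^ n * c ^ n)) :
    b ^ (j - n) = a ^ (m - i - k) * c ^ (n - l) ∧
      c ^ (l - n) = a ^ (m - i - k) * b ^ (n - j) :=
  relation_aux (V := Additive A) h

section HomGroup

/-! Rewriting lemmas stated at the instances found for a group of homomorphisms. -/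

variable {A : Type u} [Group A] (a b : A →* ℂˣ)

theorem hom_mul_one : a * 1 = a := mul_one a

theorem hom_one_mul : 1 * a = a := one_mul a

theorem hom_div_eq_one : a / b = 1 ↔ a = b := by
  constructor
  · intro h
    exact MonoidHom.ext fun x => div_eq_one.mp (DFunLike.congr_fun h x)
  · rintro rfl
    exact div_self' a

theorem hom_eq_inv (h : a * b = 1) : a = b⁻¹ :=
  MonoidHom.ext fun x => eq_inv_of_mul_eq_one_left (DFunLike.congr_fun h x)

theorem hom_inv_eq_one (h : a⁻¹ = 1) : a = 1 :=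
  MonoidHom.ext fun x => inv_eq_one.mp (DFunLike.congr_fun h x)

theorem hom_zpow_mul_eq_one {p : ℕ} (h : a ^ p = 1) (r : ℤ) : a ^ ((p : ℤ) * r) = 1 :=
  MonoidHom.ext fun x => by
    rw [MonoidHom.zpow_apply, zpow_mul, zpow_natCast, ← MonoidHom.pow_apply, h,
      MonoidHom.one_apply, one_zpow]

end HomGroup

section Dual

variable (M : Subgroup G) [hM : M.Normal]

/-- Conjugation on a normal subgroup. -/
noncomputable def cjg (g : G) : M →* M := (MulAut.conjNormal g).toMonoidHom

@[simp] theorem coe_cjg (g : G) (m : M) : ((cjg M g m : M) : G) = g * m * g⁻¹ := by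
  simp [cjg, MulAut.conjNormal_apply]

theorem cjg_mul (g h : G) : cjg M (g * h) = (cjg M g).comp (cjg M h) :=
  MonoidHom.ext fun m => Subtype.ext (by simp [mul_assoc])

theorem cjg_one : cjg M 1 = MonoidHom.id M := MonoidHom.ext fun m => Subtype.ext (by simp)

/-- The amount by which `g` moves `lam`. -/
noncomputable def mv (lam : M →* ℂˣ) (g : G) : M →* ℂˣ := lam.comp (cjg M g) / lam

theorem mv_mul (lam : M →* ℂˣ) (g h : G) :
    mv M lam (g * h) = (mv M lam g).comp (cjg M h) * mv M lam h := by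
  refine MonoidHom.ext fun m => ?_
  simp [mv, cjg_mul, div_eq_mul_inv, mul_assoc]

theorem mem_stab_iff_mv (lam : M →* ℂˣ) (g : G) : g ∈ stab M lam ↔ mv M lam g = 1 := by
  rw [mv, hom_div_eq_one, MonoidHom.ext_iff, mem_stab]
  exact forall_congr' fun m => by
    rw [MonoidHom.comp_apply]
    exact Iff.of_eq (congrArg (fun z => lam z = lam m) (Subtype.ext (coe_cjg M g m).symm))

theorem mv_fixed_of_mem (lam : M →* ℂˣ) [hn : (stab M lam).Normal] (g : G) {t : G}
    (ht : t ∈ stab M lam) : (mv M lam g).comp (cjg M t) = mv M lam g := by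
  have h1 := (mem_stab_iff_mv M lam _).mp (hn.conj_mem t ht g)
  have h2 := (mem_stab_iff_mv M lam t).mp ht
  have h3 := mv_mul M lam g t
  rw [show g * t = g * t * g⁻¹ * g by group, mv_mul, h1, h2, MonoidHom.one_comp, hom_one_mul,
    hom_mul_one] at h3
  exact h3.symm

variable {p : ℕ}

theorem index_stab_eq (h2 : Two G p) (hp : p.Prime) (lam : M →* ℂˣ) (hne : stab M lam ≠ ⊤) :
    (stab M lam).index = p := by
  classical
  haveI := Fintype.ofFinite M
  obtain ⟨χ, hχ, hcon⟩ := CharactersDeep.Clifford.exists_over M (isIrr_linChar lam)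
  have h := clifford_degree M hχ (isIrr_linChar lam) (stab M lam)
    (fun g => mem_stab_iff_conjBy M) hcon
  obtain ⟨e, he⟩ := classInner_character_irr (isCharacter_restrict M (isCharacter_of_isIrr hχ))
    (isIrr_linChar lam)
  simp only [he, map_one, Units.val_one, mul_one] at h
  have hdvd : (stab M lam).index ∣ p := by
    rcases h2 χ hχ with h1 | h1 <;> rw [h1] at h
    · have h' : 1 = e * (stab M lam).index := by exact_mod_cast h
      exact ⟨p, by rw [Nat.eq_one_of_mul_eq_one_left h'.symm, one_mul]⟩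
    · exact Dvd.intro_left e (by exact_mod_cast h.symm)
  exact ((Nat.dvd_prime hp).mp hdvd).resolve_left fun h1 => hne (Subgroup.index_eq_one.mp h1)

/-- An element outside a subgroup of prime index generates modulo it. -/
theorem exists_zpow_mul {T : Subgroup G} [T.Normal] (hp : p.Prime) (hT : T.index = p) {g : G}
    (hg : g ∉ T) (h : G) : ∃ (a : ℤ), g ^ a * h ∈ T := by
  haveI := Fact.mk hp
  have hz := zpowers_eq_top_of_prime_card (p := p) (g := (g : G ⧸ T))
    (by rw [← Subgroup.index_eq_card, hT]) fun e => hg ((QuotientGroup.eq_one_iff g).mp e)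
  obtain ⟨a, ha⟩ := Subgroup.mem_zpowers_iff.mp (hz.ge (Subgroup.mem_top (h : G ⧸ T)))
  exact ⟨-a, by rw [← QuotientGroup.eq_one_iff, QuotientGroup.mk_mul, QuotientGroup.mk_zpow, ← ha,
    zpow_neg, inv_mul_cancel]⟩

theorem exists_fixed_mv (h2 : Two G p) (hp : p.Prime) (lam μ : M →* ℂˣ) (hl : stab M lam ≠ ⊤)
    (hm : stab M μ ≠ ⊤) (hne : stab M lam ≠ stab M μ) :
    ∃ z : M →* ℂˣ, z ≠ 1 ∧ z ^ p = 1 ∧ (∀ g : G, z.comp (cjg M g) = z) ∧
      (∀ g, mv M lam g ∈ Subgroup.zpowers z) ∧ (∀ g, mv M μ g ∈ Subgroup.zpowers z) := by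
  haveI hln : ∀ ν : M →* ℂˣ, (stab M ν).Normal := fun ν =>
    Subgroup.Normal.of_commutator_le _ (commutator_le_stab M h2 hp.one_le ν)
  set T := stab M lam
  set S := stab M μ
  have hTi := index_stab_eq M h2 hp lam hl
  have hSi := index_stab_eq M h2 hp μ hm
  have hnle : ∀ A B : Subgroup G, A.index = p → B.index = p → A ≠ B → ∃ x ∈ B, x ∉ A := by
    intro A B hA hB hAB
    by_contra h
    push Not at h
    have h1 := Subgroup.relIndex_mul_index (show B ≤ A from h)
    rw [hA, hB] at h1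
    have h2' : B.relIndex A = 1 := by
      have := hp.pos
      exact Nat.eq_of_mul_eq_mul_right this (h1.trans (one_mul p).symm)
    exact hAB (le_antisymm (Subgroup.relIndex_eq_one.mp h2') h)
  obtain ⟨g, hgS, hgT⟩ := hnle T S hTi hSi hne
  obtain ⟨h, hhT, hhS⟩ := hnle S T hSi hTi (Ne.symm hne)
  set R := stab M (lam * μ)
  have hsplit : ∀ x, mv M (lam * μ) x = mv M lam x * mv M μ x := fun x => by
    refine MonoidHom.ext fun m => ?_
    simp [mv, div_eq_mul_inv, mul_comm, mul_left_comm, mul_assoc]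
  have hgR : g ∉ R := fun hgR => hgT ((mem_stab_iff_mv M lam g).mpr (by
    have := (mem_stab_iff_mv M _ g).mp hgR
    rwa [hsplit, (mem_stab_iff_mv M μ g).mp hgS, hom_mul_one] at this))
  have hRi := index_stab_eq M h2 hp (lam * μ) fun e => hgR (e.ge (Subgroup.mem_top g))
  obtain ⟨a, ha⟩ := exists_zpow_mul hp hRi hgR h
  set z := mv M μ h with hz
  have hμh : mv M μ (g ^ a * h) = z := by
    rw [mv_mul, (mem_stab_iff_mv M μ _).mp (S.zpow_mem hgS a), MonoidHom.one_comp, hom_one_mul]
  have hlh : mv M lam (g ^ a * h) = mv M lam (g ^ a) := by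
    rw [mv_mul, (mem_stab_iff_mv M lam h).mp hhT, hom_mul_one, mv_fixed_of_mem M lam _ hhT]
  have hzl : mv M lam (g ^ a) = z⁻¹ := by
    have := (mem_stab_iff_mv M _ _).mp ha
    rw [hsplit, hlh, hμh] at this
    exact hom_eq_inv _ _ this
  have hzT : ∀ t ∈ T, z.comp (cjg M t) = z := fun t ht => by
    have h1 := mv_fixed_of_mem M lam (g ^ a) ht
    rw [hzl] at h1
    refine inv_injective ?_
    rw [← h1]
    exact MonoidHom.ext fun m => by simp
  have hzfix : ∀ k : G, z.comp (cjg M k) = z := by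
    intro k
    obtain ⟨b, hb⟩ := exists_zpow_mul hp hTi hgT k
    rw [show k = (g ^ b)⁻¹ * (g ^ b * k) by group, cjg_mul, ← MonoidHom.comp_assoc,
      mv_fixed_of_mem M μ h (S.inv_mem (S.zpow_mem hgS b)), hzT _ hb]
  have hz1 : z ≠ 1 := fun e => hhS ((mem_stab_iff_mv M μ h).mpr e)
  have hgaT : g ^ a ∉ T := fun hmem => hz1 (hom_inv_eq_one _
    (hzl.symm.trans ((mem_stab_iff_mv M lam _).mp hmem)))
  -- powers of an element moved by a fixed character
  have hzpow : ∀ (ν : M →* ℂˣ) (x : G) (w : M →* ℂˣ), (∀ k, w.comp (cjg M k) = w) →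
      mv M ν x = w → ∀ i : ℤ, mv M ν (x ^ i) = w ^ i := by
    intro ν x w hw hx i
    have hnat : ∀ (n : ℕ) (m : M), mv M ν (x ^ n) m = w m ^ n := by
      intro n
      induction n with
      | zero =>
        intro m
        rw [pow_zero, (mem_stab_iff_mv M ν 1).mp (stab M ν).one_mem, MonoidHom.one_apply, pow_zero]
      | succ n ih =>
        intro m
        rw [pow_succ, mv_mul, MonoidHom.mul_apply, MonoidHom.comp_apply, ih, hx, pow_succ,
          show w (cjg M x m) = w m from DFunLike.congr_fun (hw x) m]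
    refine MonoidHom.ext fun m => ?_
    rw [MonoidHom.zpow_apply]
    obtain ⟨n, rfl | rfl⟩ := Int.eq_nat_or_neg i
    · rw [zpow_natCast, zpow_natCast]
      exact hnat n m
    · rw [zpow_neg, zpow_natCast, zpow_neg, zpow_natCast]
      have h1 := DFunLike.congr_fun (mv_mul M ν (x ^ n)⁻¹ (x ^ n)) (cjg M (x ^ n)⁻¹ m)
      rw [inv_mul_cancel, (mem_stab_iff_mv M ν 1).mp (stab M ν).one_mem, MonoidHom.one_apply,
        MonoidHom.mul_apply, MonoidHom.comp_apply, ← MonoidHom.comp_apply (cjg M (x ^ n)),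
        ← cjg_mul, mul_inv_cancel, cjg_one, MonoidHom.id_apply, hnat,
        show w (cjg M (x ^ n)⁻¹ m) = w m from DFunLike.congr_fun (hw _) m] at h1
      exact eq_inv_of_mul_eq_one_left h1.symm
  have hinvfix : ∀ k, z⁻¹.comp (cjg M k) = z⁻¹ := fun k =>
    MonoidHom.ext fun m => by
      simpa using congrArg (·⁻¹) (DFunLike.congr_fun (hzfix k) m)
  have hpowfix : ∀ (w : M →* ℂˣ), (∀ k, w.comp (cjg M k) = w) → ∀ (i : ℤ) (k : G),
      (w ^ i).comp (cjg M k) = w ^ i := fun w hw i k => MonoidHom.ext fun m => by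
    rw [MonoidHom.comp_apply, MonoidHom.zpow_apply, MonoidHom.zpow_apply,
      show w (cjg M k m) = w m from DFunLike.congr_fun (hw k) m]
  refine ⟨z, hz1, ?_, hzfix, fun k => ?_, fun k => ?_⟩
  · have h1 := hzpow μ h z hzfix rfl p
    have h2' : h ^ p ∈ S := hSi ▸ S.pow_index_mem h
    rw [zpow_natCast h, (mem_stab_iff_mv M μ _).mp h2'] at h1
    refine MonoidHom.ext fun m => ?_
    have h3 := DFunLike.congr_fun h1 m
    rw [MonoidHom.zpow_apply, zpow_natCast, MonoidHom.one_apply] at h3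
    exact h3.symm
  · obtain ⟨b, hb⟩ := exists_zpow_mul hp hTi hgaT k
    rw [show k = (g ^ a) ^ (-b) * ((g ^ a) ^ b * k) by group, mv_mul,
      hzpow lam _ _ hinvfix hzl, (mem_stab_iff_mv M lam _).mp hb, hom_mul_one]
    rw [hpowfix z⁻¹ hinvfix]
    exact Subgroup.zpow_mem _ (Subgroup.inv_mem _ (Subgroup.mem_zpowers z)) (-b)
  · obtain ⟨b, hb⟩ := exists_zpow_mul hp hSi hhS k
    rw [show k = h ^ (-b) * (h ^ b * k) by group, mv_mul, hzpow μ h z hzfix rfl,
      (mem_stab_iff_mv M μ _).mp hb, hom_mul_one]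
    rw [hpowfix z hzfix]
    exact Subgroup.zpow_mem _ (Subgroup.mem_zpowers z) (-b)

end Dual

variable {p : ℕ}

/-- A family of linear maps preserving every line modulo a fixed one is scalar. -/
theorem exists_scalar {V : Type*} [CommGroup V] (hp : p.Prime) (u : G →* V)
    (hup : ∀ g, u g ^ p = 1) (cm : G → G → V) (hcmr : ∀ a b c, cm a (b * c) = cm a b * cm a c)
    (hspan' : ∀ g h, ∃ a b : ℤ, cm g h = u g ^ a * u h ^ b)
    (hbig : ∀ g h, ¬ u.range ≤ Subgroup.closure {u g, u h}) :
    ∀ g : G, ∃ e : ℤ, ∀ h : G, cm g h * (u h ^ e)⁻¹ ∈ Subgroup.zpowers (u g) := by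
  intro g
  choose A B hAB using hspan' g
  have hB : ∀ h, cm g h * (u h ^ B h)⁻¹ ∈ Subgroup.zpowers (u g) := fun h => by
    rw [hAB, mul_inv_cancel_right]
    exact zpow_mem (Subgroup.mem_zpowers _) _
  obtain ⟨_, ⟨h₁, rfl⟩, hh₁⟩ := SetLike.not_le_iff_exists.mp (hbig g 1)
  have hh₁' : u h₁ ∉ Subgroup.zpowers (u g) := fun h => hh₁ (by
    rw [Subgroup.zpowers_eq_closure] at h
    exact Subgroup.closure_mono (by simp) h)
  -- two independent values have congruent exponents
  have hindep : ∀ h k, u h ∉ Subgroup.closure {u g, u k} → u k ∉ Subgroup.zpowers (u g) →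
      (p : ℤ) ∣ B h - B k := by
    intro h k hh hk
    have hk' : u k ∉ Subgroup.closure {u g, u h} := fun hmem =>
      hh (exchange hp (hup k) (hup h) hmem hk)
    obtain ⟨A', hA'⟩ : ∃ A' : ℤ, cm g (h * k) = u g ^ A' * (u h * u k) ^ B (h * k) :=
      ⟨A (h * k), by rw [hAB, map_mul]⟩
    rw [hcmr, hAB, hAB, mul_zpow] at hA'
    have h1 : u h ^ (B h - B (h * k)) ∈ Subgroup.closure {u g, u k} :=
      Subgroup.mem_closure_pair.mpr ⟨A' - A h - A k, B (h * k) - B k, (relation hA').1.symm⟩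
    have h2' : u k ^ (B k - B (h * k)) ∈ Subgroup.closure {u g, u h} :=
      Subgroup.mem_closure_pair.mpr ⟨A' - A h - A k, B (h * k) - B h, (relation hA').2.symm⟩
    have d1 : (p : ℤ) ∣ B h - B (h * k) := by
      by_contra hd
      exact hh (mem_of_zpow_mem_of_pow_eq_one hp (hup h) hd h1)
    have d2 : (p : ℤ) ∣ B k - B (h * k) := by
      by_contra hd
      exact hk' (mem_of_zpow_mem_of_pow_eq_one hp (hup k) hd h2')
    have := dvd_sub d1 d2
    rwa [sub_sub_sub_cancel_right] at this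
  refine ⟨B h₁, fun h => ?_⟩
  by_cases hh : u h ∈ Subgroup.zpowers (u g)
  · refine mul_mem ?_ (inv_mem (zpow_mem hh _))
    rw [hAB]
    exact mul_mem (zpow_mem (Subgroup.mem_zpowers _) _) (zpow_mem hh _)
  have hd : (p : ℤ) ∣ B h - B h₁ := by
    by_cases hh2 : u h ∈ Subgroup.closure {u g, u h₁}
    · obtain ⟨_, ⟨h₂, rfl⟩, hh₂⟩ := SetLike.not_le_iff_exists.mp (hbig g h₁)
      have hh₂' : u h ∉ Subgroup.closure {u g, u h₂} := fun hmem => by
        apply hh₂
        have h3 := exchange hp (hup h) (hup h₂) hmem hh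
        refine (Subgroup.closure_le _).mpr ?_ h3
        rintro y (rfl | rfl)
        · exact Subgroup.subset_closure (Set.mem_insert _ _)
        · exact hh2
      have hh₂g : u h₂ ∉ Subgroup.zpowers (u g) := fun hz => hh₂ (by
        rw [Subgroup.zpowers_eq_closure] at hz
        exact Subgroup.closure_mono (by simp) hz)
      have d1 := hindep h h₂ hh₂' hh₂g
      have d2 := hindep h₂ h₁ hh₂ hh₁'
      have := dvd_add d1 d2
      rwa [sub_add_sub_cancel] at this
    · exact hindep h h₁ hh2 hh₁'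
  obtain ⟨c, hc⟩ := hd
  rw [show B h₁ = B h - (p : ℤ) * c by linarith, zpow_sub, zpow_mul, zpow_natCast, hup, one_zpow,
    inv_one, mul_one]
  exact hB h

set_option maxHeartbeats 1600000 in
/-- The nilpotent case of the classification of degree set `{1, p}`. -/
theorem index_center_of_nilpotent [Group.IsNilpotent G] (h2 : Two G p) (hp : p.Prime)
    (hno : ¬ ∃ A : Subgroup G, A.Normal ∧ (∀ a ∈ A, ∀ b ∈ A, a * b = b * a) ∧ A.index = p)
    (hnab : ∃ a b : G, a * b ≠ b * a) :
    (Subgroup.center G).index = p ^ 3 := by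
  classical
  obtain ⟨M, -, hM⟩ := Finite.exists_le_maximal
    (p := fun M : Subgroup G => M.Normal ∧ IsMulCommutative M) (a := ⊥)
    ⟨inferInstance, inferInstance⟩
  haveI := hM.prop.1
  haveI := hM.prop.2
  have hC : Subgroup.centralizer (M : Set G) = M := Solvable.centralizer_eq_of_maximal_abelian_normal
    fun K hK hKc hle => le_antisymm (hM.2 ⟨hK, hKc⟩ hle) hle
  have hMab : ∀ a ∈ M, ∀ b ∈ M, a * b = b * a := fun a ha b hb =>
    congrArg Subtype.val (mul_comm' (⟨a, ha⟩ : M) ⟨b, hb⟩)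
  have hMtop : M ≠ ⊤ := by
    rintro rfl
    obtain ⟨a, b, hab⟩ := hnab
    exact hab (hMab a (Subgroup.mem_top a) b (Subgroup.mem_top b))
  have hcomm : commutator G ≤ M := (commutator_le_centralizer M h2 hp.one_le).trans hC.le
  haveI hsn : ∀ ν : M →* ℂˣ, (stab M ν).Normal := fun ν =>
    Subgroup.Normal.of_commutator_le _ (commutator_le_stab M h2 hp.one_le ν)
  -- two characters with different stabilisers
  have hsome : ∃ ν : M →* ℂˣ, stab M ν ≠ ⊤ := by
    by_contra h
    push Not at h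
    exact hMtop (eq_top_iff.mpr fun g _ => hC.le
      (mem_centralizer_of_forall_stab M fun ν => (h ν).ge (Subgroup.mem_top g)))
  obtain ⟨lam, hlam⟩ := hsome
  obtain ⟨μ, hμ, hne⟩ : ∃ μ : M →* ℂˣ, stab M μ ≠ ⊤ ∧ stab M lam ≠ stab M μ := by
    by_contra h
    push Not at h
    refine hno ⟨M, inferInstance, hMab, ?_⟩
    have hTM : stab M lam ≤ M := fun g hg => hC.le (mem_centralizer_of_forall_stab M fun ν => by
      by_cases hν : stab M ν = ⊤
      · rw [hν]; trivial
      · exact h ν hν ▸ hg)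
    have hMT : M ≤ stab M lam := fun g hg n => congrArg lam (Subtype.ext (by
      show g * n * g⁻¹ = n
      rw [hMab g hg n n.2, mul_inv_cancel_right]))
    rw [le_antisymm hMT hTM]
    exact index_stab_eq M h2 hp lam hlam
  obtain ⟨z, hz1, hzp, hzfix, hzl, hzμ⟩ := exists_fixed_mv M h2 hp lam μ hlam hμ hne
  have hgen : ∀ w ∈ Subgroup.zpowers z, w ≠ 1 → z ∈ Subgroup.zpowers w := by
    rintro w ⟨k, rfl⟩ hw
    refine mem_of_zpow_mem_of_pow_eq_one hp hzp (fun hk => hw ?_) (Subgroup.mem_zpowers _)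
    obtain ⟨r, rfl⟩ := hk
    exact hom_zpow_mul_eq_one z hzp r
  have hall : ∀ (ν : M →* ℂˣ) (g : G), mv M ν g ∈ Subgroup.zpowers z := by
    intro ν g
    by_cases hν : stab M ν = ⊤
    · rw [(mem_stab_iff_mv M ν g).mp (hν ▸ Subgroup.mem_top g)]
      exact one_mem _
    have key : ∀ a : M →* ℂˣ, stab M a ≠ ⊤ → (∀ k, mv M a k ∈ Subgroup.zpowers z) →
        stab M a ≠ stab M ν → mv M ν g ∈ Subgroup.zpowers z := by
      intro a ha haz hane
      obtain ⟨z', -, hz'p, -, hz'a, hz'ν⟩ := exists_fixed_mv M h2 hp a ν ha hν hane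
      obtain ⟨k, hk⟩ : ∃ k, mv M a k ≠ 1 := by
        by_contra h
        push Not at h
        exact ha (eq_top_iff.mpr fun k _ => (mem_stab_iff_mv M a k).mpr (h k))
      have hz' : z' ∈ Subgroup.zpowers (mv M a k) := by
        obtain ⟨j, hj⟩ := Subgroup.mem_zpowers_iff.mp (hz'a k)
        refine mem_of_zpow_mem_of_pow_eq_one hp hz'p (fun hd => hk ?_)
          (show z' ^ j ∈ _ from hj ▸ Subgroup.mem_zpowers _)
        obtain ⟨r, rfl⟩ := hd
        rw [← hj]
        exact hom_zpow_mul_eq_one z' hz'p r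
      exact Subgroup.zpowers_le.mpr (Subgroup.zpowers_le.mpr (haz k) hz') (hz'ν g)
    by_cases h1 : stab M lam = stab M ν
    · exact key μ hμ hzμ fun e => hne (h1.trans e.symm)
    · exact key lam hlam hzl h1
  -- the centre is the kernel of `z`
  have hcen : ∀ m : M, z m = 1 → (m : G) ∈ Subgroup.center G := by
    intro m hm
    rw [Subgroup.mem_center_iff]
    intro g
    have h1 : cjg M g m = m := eq_of_forall_hom fun ν => by
      obtain ⟨k, hk⟩ := Subgroup.mem_zpowers_iff.mp (hall ν g)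
      have h := DFunLike.congr_fun hk m
      rw [MonoidHom.zpow_apply, hm, one_zpow] at h
      exact div_eq_one.mp h.symm
    exact mul_inv_eq_iff_eq_mul.mp ((coe_cjg M g m).symm.trans (congrArg Subtype.val h1))
  have hcen' : ∀ m : M, (m : G) ∈ Subgroup.center G → z m = 1 := by
    intro m hm
    obtain ⟨k, hk⟩ : ∃ k, mv M lam k ≠ 1 := by
      by_contra h
      push Not at h
      exact hlam (eq_top_iff.mpr fun k _ => (mem_stab_iff_mv M lam k).mpr (h k))
    obtain ⟨j, hj⟩ := Subgroup.mem_zpowers_iff.mp (hgen _ (hzl k) hk)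
    rw [← hj, MonoidHom.zpow_apply]
    have h1 : mv M lam k m = 1 := by
      have e : cjg M k m = m := Subtype.ext (by
        rw [coe_cjg, Subgroup.mem_center_iff.mp hm k, mul_inv_cancel_right])
      simp [mv, e]
    rw [h1, one_zpow]
  obtain ⟨x, hx⟩ : ∃ x : M, z x ≠ 1 := by
    by_contra h
    push Not at h
    exact hz1 (MonoidHom.ext h)
  have hzxp : ∀ m : M, z m ^ p = 1 := fun m => by
    rw [← MonoidHom.pow_apply, hzp, MonoidHom.one_apply]
  have hxp : z x ^ p = 1 := hzxp x
  have hxord : orderOf (z x) = p := haveI := Fact.mk hp; orderOf_eq_prime hxp hx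
  have hprim : IsPrimitiveRoot (z x) p := hxord ▸ IsPrimitiveRoot.orderOf (z x)
  have hdec : ∀ m : M, ∃ i : ℤ, z ((x ^ i)⁻¹ * m) = 1 := by
    intro m
    haveI := NeZero.of_pos hp.pos
    have h1 : z m ∈ Subgroup.zpowers (z x) := by
      rw [hprim.zpowers_eq]
      exact (mem_rootsOfUnity _ _).mpr (hzxp m)
    obtain ⟨i, hi⟩ := Subgroup.mem_zpowers_iff.mp h1
    exact ⟨i, by rw [map_mul, map_inv, map_zpow, hi, inv_mul_cancel]⟩
  have hZM : Subgroup.center G ≤ M := fun c hc => hC.le
    (Subgroup.mem_centralizer_iff.mpr fun m _ => Subgroup.mem_center_iff.mp hc m)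
  have hrel : (Subgroup.center G).relIndex M = p := by
    have hker : (Subgroup.center G).subgroupOf M = z.ker :=
      Subgroup.ext fun m => ⟨fun h => hcen' m h, fun h => hcen m h⟩
    rw [Subgroup.relIndex, hker, Subgroup.index_ker]
    have hr : z.range = Subgroup.zpowers (z x) := by
      refine le_antisymm ?_ (Subgroup.zpowers_le.mpr ⟨x, rfl⟩)
      rintro _ ⟨m, rfl⟩
      haveI := NeZero.of_pos hp.pos
      rw [hprim.zpowers_eq]
      exact (mem_rootsOfUnity _ _).mpr (hzxp m)
    rw [hr, Nat.card_zpowers, hxord]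
  -- commutation with `x`
  have hmc : ∀ g : G, ⁅g, (x : G)⁆ ∈ Subgroup.center G := by
    intro g
    have hmem : ⁅g, (x : G)⁆ ∈ M := hcomm
      (Subgroup.commutator_mem_commutator (Subgroup.mem_top _) (Subgroup.mem_top _))
    refine hcen ⟨_, hmem⟩ ?_
    have e : (⟨_, hmem⟩ : M) = cjg M g x * x⁻¹ := Subtype.ext (by
      simp [commutatorElement_def])
    rw [e, map_mul, map_inv, ← MonoidHom.comp_apply, hzfix g, mul_inv_cancel]
  have hcz : ∀ (c : G), c ∈ Subgroup.center G → ∀ y : G, y * c = c * y := fun c hc y =>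
    Subgroup.mem_center_iff.mp hc y
  have hx_u : ∀ g h : G, ⁅g * h, (x : G)⁆ = ⁅g, (x : G)⁆ * ⁅h, (x : G)⁆ := fun g h => by
    rw [show ⁅g * h, (x : G)⁆ = g * ⁅h, (x : G)⁆ * g⁻¹ * ⁅g, (x : G)⁆ by
      simp only [commutatorElement_def]; group, hcz _ (hmc h) g, mul_inv_cancel_right,
      hcz _ (hmc g) ⁅h, (x : G)⁆]
  letI : CommGroup ↥(Subgroup.center G) :=
    { (Subgroup.center G).toGroup with
      mul_comm := fun a b => Subtype.ext (Subgroup.mem_center_iff.mp b.2 a) }
  let u : G →* Subgroup.center G :=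
    MonoidHom.mk' (fun g => ⟨⁅g, (x : G)⁆, hmc g⟩) fun g h => Subtype.ext (hx_u g h)
  have hu : ∀ g, ((u g : Subgroup.center G) : G) = ⁅g, (x : G)⁆ := fun g => rfl
  have hconj : ∀ (g : G) (i : ℤ) (m : M), z ((x ^ i)⁻¹ * m) = 1 →
      cjg M g m = m * ⟨(u g : G) ^ i, hZM ((Subgroup.center G).zpow_mem (u g).2 i)⟩ := by
    intro g i m hm
    have h1 := hcen _ hm
    apply Subtype.ext
    rw [coe_cjg, Subgroup.coe_mul]
    show g * (m : G) * g⁻¹ = (m : G) * ⁅g, (x : G)⁆ ^ i
    set c : G := (((x ^ i)⁻¹ * m : M) : G) with hc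
    have hmeq : (m : G) = (x : G) ^ i * c := by
      simp [hc]
    have hgx : g * (x : G) * g⁻¹ = ⁅g, (x : G)⁆ * x := by
      rw [commutatorElement_def]; group
    calc g * (m : G) * g⁻¹ = (g * (x : G) * g⁻¹) ^ i * (g * c * g⁻¹) := by
          rw [hmeq, conj_zpow]; group
      _ = ⁅g, (x : G)⁆ ^ i * (x : G) ^ i * c := by
          rw [hgx, hcz c h1 g, mul_inv_cancel_right,
            Commute.mul_zpow (hcz _ (hmc g) x).symm]
      _ = (m : G) * ⁅g, (x : G)⁆ ^ i := by
          rw [hmeq, mul_assoc, ← hcz _ ((Subgroup.center G).zpow_mem (hmc g) i)]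
  have huker : u.ker = M := by
    refine le_antisymm (fun g hg => hC.le (Subgroup.mem_centralizer_iff.mpr fun m hm => ?_))
      fun g hg => MonoidHom.mem_ker.mpr (Subtype.ext ?_)
    · obtain ⟨i, hi⟩ := hdec ⟨m, hm⟩
      have h := congrArg Subtype.val (hconj g i _ hi)
      rw [coe_cjg, Subgroup.coe_mul] at h
      simp only [MonoidHom.mem_ker.mp hg, OneMemClass.coe_one, one_zpow, mul_one] at h
      exact (mul_inv_eq_iff_eq_mul.mp h).symm
    · rw [hu, OneMemClass.coe_one, commutatorElement_eq_one_iff_mul_comm]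
      exact hMab g hg x x.2
  have hup : ∀ g, u g ^ p = 1 := by
    intro g
    refine Subtype.ext ?_
    rw [SubmonoidClass.coe_pow, OneMemClass.coe_one]
    have h1 : (⟨(u g : G) ^ p, hZM ((Subgroup.center G).pow_mem (u g).2 p)⟩ : M) = 1 :=
      eq_of_forall_hom fun ν => by
        obtain ⟨k, hk⟩ := Subgroup.mem_zpowers_iff.mp (hall ν g)
        have h := DFunLike.congr_fun hk x
        have hc := hconj g 1 x (by simp)
        rw [MonoidHom.zpow_apply, mv, MonoidHom.div_apply, MonoidHom.comp_apply, hc, map_mul,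
          mul_div_cancel_left] at h
        simp only [zpow_one] at h
        have e : (⟨(u g : G) ^ p, hZM ((Subgroup.center G).pow_mem (u g).2 p)⟩ : M) =
            ⟨(u g : G), hZM (u g).2⟩ ^ p := Subtype.ext (by simp)
        rw [e, map_pow, ← h, ← zpow_natCast, ← zpow_mul, mul_comm, zpow_mul, zpow_natCast,
          hxp, one_zpow, map_one]
    exact congrArg Subtype.val h1
  set U := u.range with hU
  have hGM : M.index = Nat.card U := by rw [← huker, Subgroup.index_ker]
  -- the centre has index `p * |U|`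
  have hidx : (Subgroup.center G).index = p * Nat.card U := by
    rw [← Subgroup.relIndex_mul_index hZM, hrel, hGM]
  have hUp : IsPGroup p U := fun y => ⟨1, by
    obtain ⟨_, g, rfl⟩ := y
    exact Subtype.ext (by rw [pow_one]; exact hup g)⟩
  haveI := Fact.mk hp
  obtain ⟨r, hr⟩ := IsPGroup.iff_card.mp hUp
  have hr2 : 2 ≤ r := by
    by_contra h
    rcases (show r = 0 ∨ r = 1 by omega) with rfl | rfl
    · exact hMtop (Subgroup.index_eq_one.mp (by rw [hGM, hr, pow_zero]))
    · exact hno ⟨M, inferInstance, hMab, by rw [hGM, hr, pow_one]⟩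
  by_cases hbig : ∃ g h : G, U ≤ Subgroup.closure {u g, u h}
  · obtain ⟨g, h, hle⟩ := hbig
    have hcard : Nat.card U ≤ p ^ 2 := by
      let f : Fin p × Fin p → U := fun ij => ⟨u g ^ (ij.1 : ℕ) * u h ^ (ij.2 : ℕ),
        ⟨g ^ (ij.1 : ℕ) * h ^ (ij.2 : ℕ), by simp⟩⟩
      have hf : Function.Surjective f := by
        rintro ⟨y, hy⟩
        obtain ⟨i, j, hij⟩ := (Subgroup.mem_closure_pair (C := ↥(Subgroup.center G))).mp (hle hy)
        have hp0 : (p : ℤ) ≠ 0 := by exact_mod_cast hp.ne_zero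
        have hred : ∀ (v : Subgroup.center G), v ^ p = 1 → ∀ i : ℤ,
            ∃ a : Fin p, v ^ (a : ℕ) = v ^ i := by
          intro v hv i
          refine ⟨⟨(i % p).toNat, ?_⟩, ?_⟩
          · have := Int.emod_lt_of_pos i (by exact_mod_cast hp.pos : (0 : ℤ) < p)
            omega
          · rw [← zpow_natCast v, Int.toNat_of_nonneg (Int.emod_nonneg i hp0)]
            conv_rhs => rw [← Int.emod_add_mul_ediv i p, zpow_add, zpow_mul, zpow_natCast, hv,
              one_zpow, mul_one]
        obtain ⟨a, ha⟩ := hred (u g) (hup g) i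
        obtain ⟨b, hb⟩ := hred (u h) (hup h) j
        exact ⟨(a, b), Subtype.ext (by show u g ^ (a : ℕ) * u h ^ (b : ℕ) = y; rw [ha, hb, hij])⟩
      refine (Nat.card_le_card_of_surjective f hf).trans (le_of_eq ?_)
      simp [sq]
    rw [hr] at hcard
    have hr' : r = 2 := le_antisymm ((Nat.pow_le_pow_iff_right hp.one_lt).mp hcard) hr2
    rw [hidx, hr, hr']
    ring
  exfalso
  push Not at hbig
  -- commutators lie in the span of the two values
  have hspan : ∀ g h : G, ∃ a b : ℤ, ⁅g, h⁆ = (u g : G) ^ a * (u h : G) ^ b := by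
    intro g h
    have hmem : ⁅g, h⁆ ∈ M := hcomm
      (Subgroup.commutator_mem_commutator (Subgroup.mem_top _) (Subgroup.mem_top _))
    set Sg := Subgroup.closure {u g, u h} with hSg
    set S : Subgroup M := (Sg.map (Subgroup.center G).subtype).subgroupOf M with hS
    suffices hk : (⟨_, hmem⟩ : M) ∈ S by
      obtain ⟨v, hv, hve⟩ := hk
      obtain ⟨a, b, rfl⟩ := (Subgroup.mem_closure_pair (C := ↥(Subgroup.center G))).mp hv
      exact ⟨a, b, by simpa using hve.symm⟩
    refine mem_of_forall_hom fun ν hν => ?_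
    obtain ⟨w, hwU, hwS⟩ := SetLike.not_le_iff_exists.mp (hbig g h)
    -- the value is `1` for characters nontrivial on `U`
    have key : ∀ ν : M →* ℂˣ, (∀ s ∈ S, ν s = 1) →
        (ν ⟨(w : G), hZM w.2⟩ ≠ 1) → ν ⟨_, hmem⟩ = 1 := by
      intro ν hν hw
      have hmemT : ∀ k : G, u k ∈ Sg → k ∈ stab M ν := by
        intro k hk n
        obtain ⟨i, hi⟩ := hdec n
        have e := hconj k i n hi
        have e' : (⟨k * n * k⁻¹, (inferInstance : M.Normal).conj_mem n n.2 k⟩ : M) = cjg M k n :=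
          Subtype.ext (coe_cjg M k n).symm
        rw [e', e, map_mul, hν ⟨(u k : G) ^ i, hZM ((Subgroup.center G).zpow_mem (u k).2 i)⟩
          ⟨u k ^ i, Sg.zpow_mem hk i, by simp⟩, mul_one]
      have hne : stab M ν ≠ ⊤ := by
        intro htop
        obtain ⟨k, rfl⟩ := hwU
        have h1 := (htop.ge (Subgroup.mem_top k) : k ∈ stab M ν) x
        have e' : (⟨k * x * k⁻¹, (inferInstance : M.Normal).conj_mem x x.2 k⟩ : M) = cjg M k x :=
          Subtype.ext (coe_cjg M k x).symm
        rw [e', hconj k 1 x (by simp), map_mul, mul_eq_left] at h1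
        exact hw (by simpa using h1)
      set T := stab M ν with hT
      haveI := Fintype.ofFinite M
      haveI := Fintype.ofFinite T
      haveI := Fintype.ofFinite (M.subgroupOf T)
      have hMT : M ≤ T := fun k hk => hmemT k (by
        rw [show u k = 1 from MonoidHom.mem_ker.mp (huker.ge hk)]; exact one_mem _)
      have hθ : Cfsg.IsIrrCharacter (M.subgroupOf T) (onSubgroupOf M T fun n => (ν n : ℂ)) :=
        isIrr_onSubgroupOf M T hMT (isIrr_linChar ν)
      obtain ⟨ψ, hψ, hcon⟩ := CharactersDeep.Clifford.exists_over (M.subgroupOf T) hθ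
      have hind := (clifford_correspondence M T (isIrr_linChar ν)
        (fun k => mem_stab_iff_conjBy M) hψ hcon).1
      have hψ1 : ψ 1 = 1 := by
        rcases h2 _ hind with e | e <;>
          rw [OddOrderChar.indFun_one, index_stab_eq M h2 hp ν hne] at e
        · obtain ⟨d, -, hd⟩ := exists_degree_pos hψ
          rw [hd] at e
          exact absurd (Nat.eq_one_of_mul_eq_one_right (by exact_mod_cast e)) hp.ne_one
        · exact (mul_eq_left₀ (Nat.cast_ne_zero.mpr hp.ne_zero)).mp e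
      obtain ⟨f, rfl⟩ := exists_hom_of_degree_one (isCharacter_of_isIrr hψ) hψ1
      have heq : ∀ n : M.subgroupOf T, (f n : ℂ) = onSubgroupOf M T (fun n => (ν n : ℂ)) n := by
        intro n
        have hirr : Cfsg.IsIrrCharacter (M.subgroupOf T) fun n => (f n : ℂ) :=
          isIrr_linChar (f.comp (M.subgroupOf T).subtype)
        by_contra hne'
        exact hcon (classInner_isIrr_ne hirr hθ fun e => hne' (congrFun e n))
      have hgT : g ∈ T := hmemT g (Subgroup.subset_closure (Set.mem_insert _ _))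
      have hhT : h ∈ T := hmemT h (Subgroup.subset_closure (Set.mem_insert_of_mem _ rfl))
      have h1 := heq ⟨⁅(⟨g, hgT⟩ : T), ⟨h, hhT⟩⁆, hmem⟩
      have hf1 : f ⁅(⟨g, hgT⟩ : T), ⟨h, hhT⟩⁆ = 1 := by
        rw [map_commutatorElement, commutatorElement_eq_one_iff_mul_comm]
        exact mul_comm _ _
      rw [show f ((⟨⁅(⟨g, hgT⟩ : T), ⟨h, hhT⟩⁆, hmem⟩ : M.subgroupOf T) : T) = 1 from hf1] at h1
      exact Units.ext h1.symm
    by_cases hw : ν ⟨(w : G), hZM w.2⟩ = 1
    · obtain ⟨ν', hν'S, hν'w⟩ : ∃ ν' : M →* ℂˣ, (∀ s ∈ S, ν' s = 1) ∧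
          ν' ⟨(w : G), hZM w.2⟩ ≠ 1 := by
        by_contra hcon
        push Not at hcon
        obtain ⟨v, hv, hve⟩ := (mem_of_forall_hom hcon : (⟨(w : G), hZM w.2⟩ : M) ∈ S)
        exact hwS (by rwa [show w = v from Subtype.ext hve.symm])
      have h1 := key ν' hν'S hν'w
      have h2' := key (ν * ν') (fun s hs => by rw [MonoidHom.mul_apply, hν s hs, hν'S s hs, one_mul])
        (by rw [MonoidHom.mul_apply, hw, one_mul]; exact hν'w)
      rwa [MonoidHom.mul_apply, h1, mul_one] at h2'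
    · exact key ν hν hw
  -- so commutators are central
  have hc2 : ∀ g h : G, ⁅g, h⁆ ∈ Subgroup.center G := fun g h => by
    obtain ⟨a, b, hab⟩ := hspan g h
    rw [hab]
    exact mul_mem (zpow_mem (u g).2 a) (zpow_mem (u h).2 b)
  let cm : G → G → Subgroup.center G := fun g h => ⟨⁅g, h⁆, hc2 g h⟩
  have hcml : ∀ a b c, cm (a * b) c = cm a c * cm b c := fun a b c => Subtype.ext (by
    show ⁅a * b, c⁆ = ⁅a, c⁆ * ⁅b, c⁆
    rw [show ⁅a * b, c⁆ = a * ⁅b, c⁆ * a⁻¹ * ⁅a, c⁆ by
      simp only [commutatorElement_def]; group, hcz _ (hc2 b c) a, mul_inv_cancel_right,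
      hcz _ (hc2 a c) ⁅b, c⁆])
  have hcmr : ∀ a b c, cm a (b * c) = cm a b * cm a c := fun a b c => Subtype.ext (by
    show ⁅a, b * c⁆ = ⁅a, b⁆ * ⁅a, c⁆
    rw [show ⁅a, b * c⁆ = ⁅a, b⁆ * (b * ⁅a, c⁆ * b⁻¹) by
      simp only [commutatorElement_def]; group, hcz _ (hc2 a c) b, mul_inv_cancel_right])
  have hspan' : ∀ g h, ∃ a b : ℤ, cm g h = u g ^ a * u h ^ b := fun g h => by
    obtain ⟨a, b, hab⟩ := hspan g h
    exact ⟨a, b, Subtype.ext (by simpa [cm] using hab)⟩
  have hcmx : ∀ g, cm g x = u g := fun g => rfl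
  have hcmx' : ∀ g, cm x g = (u g)⁻¹ := fun g => Subtype.ext (by
    simp [cm, hu, commutatorElement_inv])
  -- a scalar for each element
  have hscal := exists_scalar hp u hup cm hcmr hspan' hbig
  -- the abelian subgroup of index `p`
  set A : Set G := {g | ∀ h, cm g h ∈ Subgroup.zpowers (u g)} with hA
  have hcmz : ∀ g h : G, cm g h = 1 → g * h = h * g := fun g h e =>
    commutatorElement_eq_one_iff_mul_comm.mp (congrArg Subtype.val e)
  have hcm_swap : ∀ g h : G, cm h g = (cm g h)⁻¹ := fun g h => Subtype.ext (by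
    simp [cm, commutatorElement_inv])
  have hcm_center : ∀ (c : G), c ∈ Subgroup.center G → ∀ h, cm c h = 1 := fun c hc h =>
    Subtype.ext (commutatorElement_eq_one_iff_mul_comm.mpr (hcz c hc h).symm)
  have hcm_center' : ∀ (c : G), c ∈ Subgroup.center G → ∀ h, cm h c = 1 := fun c hc h => by
    rw [hcm_swap c h, hcm_center c hc, inv_one]
  have hcm_zpow : ∀ (g : G) (i : ℤ) (h : G), cm (g ^ i) h = cm g h ^ i := fun g i h => by
    let f : G →* Subgroup.center G := MonoidHom.mk' (fun g => cm g h) fun a b => hcml a b h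
    exact map_zpow f g i
  have hcommA : ∀ a ∈ A, ∀ b ∈ A, a * b = b * a := by
    intro a ha b hb
    by_cases hab : u b ∈ Subgroup.zpowers (u a)
    · obtain ⟨k, hk⟩ := Subgroup.mem_zpowers_iff.mp hab
      have hm : (a ^ k)⁻¹ * b ∈ M := huker.le (MonoidHom.mem_ker.mpr (by
        rw [map_mul, map_inv, map_zpow, hk, inv_mul_cancel]))
      obtain ⟨i, hi⟩ := hdec ⟨_, hm⟩
      have hc : ((x : G) ^ i)⁻¹ * ((a ^ k)⁻¹ * b) ∈ Subgroup.center G := by
        simpa using hcen _ hi
      have hb' : b = a ^ k * ((x : G) ^ i * (((x : G) ^ i)⁻¹ * ((a ^ k)⁻¹ * b))) := by group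
      have hi' : (p : ℤ) ∣ i := by
        by_contra hd
        obtain ⟨_, ⟨h₁, rfl⟩, hh₁⟩ := SetLike.not_le_iff_exists.mp (hbig a 1)
        apply hh₁
        refine (Subgroup.zpowers_le.mpr (Subgroup.subset_closure (Set.mem_insert _ _)) :
          Subgroup.zpowers (u a) ≤ _) (mem_of_zpow_mem_of_pow_eq_one hp (hup h₁) hd ?_)
        have h1 := Subgroup.zpowers_le.mpr (hk ▸ zpow_mem (Subgroup.mem_zpowers (u a)) k :
          u b ∈ Subgroup.zpowers (u a)) (hb h₁)
        rw [hb', hcml, hcml, hcm_zpow, hcm_zpow, hcmx', hcm_center _ hc, mul_one] at h1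
        have h3 := (Subgroup.zpowers (u a)).mul_mem
          ((Subgroup.zpowers (u a)).inv_mem (zpow_mem (ha h₁) k)) h1
        rw [inv_mul_cancel_left, inv_zpow] at h3
        exact inv_mem_iff.mp h3
      obtain ⟨r, rfl⟩ := hi'
      apply hcmz
      rw [hb', hcmr, hcmr, hcm_swap (a ^ k) a, hcm_zpow, hcm_swap (x ^ ((p : ℤ) * r) : G) a,
        hcm_zpow, hcmx', hcm_center' _ hc]
      rw [show cm a a = 1 from Subtype.ext (commutatorElement_eq_one_iff_mul_comm.mpr rfl)]
      simp [zpow_mul, hup]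
    · apply hcmz
      by_contra hne'
      apply hab
      have h1 : cm a b ∈ Subgroup.zpowers (u b) := by
        rw [hcm_swap b a]; exact inv_mem (hb a)
      obtain ⟨j, hj⟩ := Subgroup.mem_zpowers_iff.mp h1
      refine mem_of_zpow_mem_of_pow_eq_one hp (hup b) (fun hd => hne' ?_) (hj ▸ ha b)
      obtain ⟨r, rfl⟩ := hd
      rw [← hj, zpow_mul, zpow_natCast, hup, one_zpow]
  set A₀ := Subgroup.closure A
  have hA₀c : IsMulCommutative A₀ := Subgroup.isMulCommutative_closure hcommA
  have hA₀ : ∀ a ∈ A₀, ∀ b ∈ A₀, a * b = b * a := fun a ha b hb =>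
    congrArg Subtype.val (hA₀c.is_comm.comm ⟨a, ha⟩ ⟨b, hb⟩)
  have hZA : Subgroup.center G ≤ A₀ := fun c hc => Subgroup.subset_closure fun h => by
    rw [hcm_center c hc]; exact one_mem _
  have hsurj : ∀ g : G, ∃ e : ℤ, g * (x : G) ^ e ∈ A₀ := by
    intro g
    obtain ⟨e, he⟩ := hscal g
    refine ⟨e, Subgroup.subset_closure fun h => ?_⟩
    rw [hcml, hcm_zpow, hcmx', map_mul, map_zpow,
      show u (x : G) = 1 from MonoidHom.mem_ker.mp (huker.ge x.2), one_zpow, mul_one, inv_zpow]
    exact he h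
  have hxA : (x : G) ∉ A₀ := fun hxA => hx (hcen' x (Subgroup.mem_center_iff.mpr fun g => by
    obtain ⟨e, he⟩ := hsurj g
    have h1 := hA₀ _ he _ hxA
    refine mul_right_cancel (b := (x : G) ^ e) ?_
    calc g * x * (x : G) ^ e = g * (x : G) ^ e * x := by group
      _ = x * (g * (x : G) ^ e) := h1
      _ = x * g * (x : G) ^ e := by group))
  haveI hA₀n : A₀.Normal := Subgroup.Normal.of_commutator_le _ ((Subgroup.commutator_le.mpr
    fun g _ h _ => hc2 g h).trans hZA)
  refine hno ⟨A₀, hA₀n, hA₀, ?_⟩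
  have hinf : A₀ ⊓ M = Subgroup.center G := by
    refine le_antisymm ?_ (le_inf hZA hZM)
    rintro m ⟨hmA, hmM⟩
    obtain ⟨i, hi⟩ := hdec ⟨m, hmM⟩
    have hc : ((x : G) ^ i)⁻¹ * m ∈ Subgroup.center G := by simpa using hcen _ hi
    have hxi : (x : G) ^ i ∈ A₀ := by
      have := A₀.mul_mem hmA (A₀.inv_mem (hZA hc))
      rwa [show m * (((x : G) ^ i)⁻¹ * m)⁻¹ = (x : G) ^ i by group] at this
    by_cases hd : (p : ℤ) ∣ i
    · obtain ⟨r, rfl⟩ := hd
      have hxc : (x : G) ^ ((p : ℤ) * r) ∈ Subgroup.center G := by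
        have := hcen (x ^ ((p : ℤ) * r)) (by rw [map_zpow, zpow_mul, zpow_natCast, hxp, one_zpow])
        simpa using this
      have := mul_mem hxc hc
      rwa [mul_inv_cancel_left] at this
    · exfalso
      apply hxA
      obtain ⟨s, t, hst⟩ := (Int.prime_iff_natAbs_prime.mpr (by simpa using hp) :
        Prime (p : ℤ)).coprime_iff_not_dvd.mpr hd
      have hxc : (x : G) ^ (p : ℤ) ∈ A₀ := by
        have := hcen (x ^ (p : ℤ)) (by rw [map_zpow, zpow_natCast, hxp])
        exact hZA (by simpa using this)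
      rw [← zpow_one (x : G), ← hst, zpow_add, mul_comm s, mul_comm t, zpow_mul, zpow_mul]
      exact A₀.mul_mem (A₀.zpow_mem hxc s) (A₀.zpow_mem hxi t)
  have htop : A₀ ⊔ M = ⊤ := eq_top_iff.mpr fun g _ => by
    obtain ⟨e, he⟩ := hsurj g
    have := mul_mem (Subgroup.mem_sup_left (T := M) he)
      (Subgroup.mem_sup_right (S := A₀) (M.inv_mem (M.zpow_mem x.2 e)))
    rwa [mul_inv_cancel_right] at this
  rw [← Subgroup.relIndex_top_right, ← htop, sup_comm, Subgroup.relIndex_sup_right]
  · rw [← Subgroup.inf_relIndex_right, hinf, hrel]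

theorem two_prime_iff (hnab : ∃ a b : G, a * b ≠ b * a) (hp : p.Prime) :
    (Two G p ∧ ∃ χ, Cfsg.IsIrrCharacter G χ ∧ χ 1 = (p : ℂ)) ↔
      ((∃ A : Subgroup G, A.Normal ∧ (∀ a ∈ A, ∀ b ∈ A, a * b = b * a) ∧ A.index = p) ∨
        (Subgroup.center G).index = p ^ 3) := by
  classical
  haveI := Fact.mk hp
  constructor
  · rintro ⟨h2, hex⟩
    rcases structure_two h2 hex hp.ne_one with h | ⟨q, e, hq, hqe, P, A, hP, hA, hPp, hAc, hPA, hsup⟩
    · exact Or.inl h
    by_cases hA1 : ∃ A : Subgroup G, A.Normal ∧ (∀ a ∈ A, ∀ b ∈ A, a * b = b * a) ∧ A.index = p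
    · exact Or.inl hA1
    right
    haveI := hP
    haveI := hA
    haveI := Fact.mk hq
    have hAcen : A ≤ Subgroup.center G := fun a ha => Subgroup.mem_center_iff.mpr fun g => by
      obtain ⟨y, hy, b, hb, rfl⟩ := Subgroup.mem_sup_of_normal_left.mp
        (hsup ▸ Subgroup.mem_top g : g ∈ P ⊔ A)
      have h1 : y * a = a * y :=
        Subgroup.commute_of_normal_of_disjoint P A hP hA (disjoint_iff.mpr hPA) y a hy ha
      rw [mul_assoc, hAc b hb a ha, ← mul_assoc, h1, mul_assoc]
    haveI : Group.IsNilpotent G := by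
      haveI := hPp.isNilpotent
      have hs : Function.Surjective
          ((QuotientGroup.mk' (Subgroup.center G)).comp P.subtype) := by
        intro y
        induction y using QuotientGroup.induction_on with | _ g =>
        obtain ⟨w, hw, b, hb, rfl⟩ := Subgroup.mem_sup_of_normal_left.mp
          (hsup ▸ Subgroup.mem_top g : g ∈ P ⊔ A)
        exact ⟨⟨w, hw⟩, by
          show (QuotientGroup.mk w : G ⧸ Subgroup.center G) = QuotientGroup.mk (w * b)
          rw [QuotientGroup.mk_mul, (QuotientGroup.eq_one_iff b).mpr (hAcen hb), mul_one]⟩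
      exact Group.of_quotient_center_nilpotent (Group.nilpotent_of_surjective _ hs)
    exact index_center_of_nilpotent h2 hp hA1 hnab
  · intro h
    have h2 : Two G p := fun χ hχ => by
      obtain ⟨d, hd0, hd⟩ := exists_degree_pos hχ
      suffices hd' : d = 1 ∨ d = p by rcases hd' with rfl | rfl <;> simp [hd]
      obtain ⟨n, ρ, hρ, rfl⟩ := hχ
      haveI := hρ
      have hn : Module.finrank ℂ (Fin n → ℂ) = d := by
        rw [Representation.char_one] at hd
        exact_mod_cast hd
      rcases h with ⟨A, hAn, hAc, hAi⟩ | hZ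
      · haveI := hAn
        have hdvd := GaloisAverage.finrank_dvd_index_abelian ρ A hAc
        rw [hn, hAi] at hdvd
        exact (Nat.dvd_prime hp).mp hdvd
      · have hdvd := Characters.finrank_dvd_center_index ρ
        rw [hn, hZ] at hdvd
        obtain ⟨j, -, rfl⟩ := (Nat.dvd_prime_pow hp).mp hdvd
        have hle := sq_degree_le_index_center ⟨n, ρ, hρ, rfl⟩ hd
        rw [hZ, ← pow_mul, Nat.pow_le_pow_iff_right hp.one_lt] at hle
        rcases (show j = 0 ∨ j = 1 by omega) with rfl | rfl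
        · exact Or.inl (pow_zero p)
        · exact Or.inr (pow_one p)
    refine ⟨h2, ?_⟩
    obtain ⟨a, b, hab⟩ := hnab
    have hne : commutator G ≠ ⊥ := fun e => hab (commutatorElement_eq_one_iff_mul_comm.mp
      (Subgroup.mem_bot.mp (e.le
        (Subgroup.commutator_mem_commutator (Subgroup.mem_top a) (Subgroup.mem_top b)))))
    obtain ⟨χ, hχ⟩ := SameDegree.exists_nonlinear hne
    exact ⟨χ, χ.2, (h2 _ χ.2).resolve_left hχ⟩

end CfsgLib.TwoDegrees73
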