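import Cfsg.Agent.DegreeGraph.Basic
import Cfsg.Agent.CharactersDeep.TransferExtend
import Cfsg.Agent.OddOrderChar.Clifford
import Cfsg.Agent.Glauberman.Constituent
import Cfsg.Agent.SameDegree.Basic
import Cfsg.Agent.GaloisAverage.CoprimeModule
import Cfsg.Agent.S4456
import Cfsg.Agent.Solvable.Nilpotent

/-!
# Groups with two character degrees

The orbit of a linear character of a normal subgroup has at most `m` points, so the derived
subgroup fixes it; together with Thompson's normal complement theorem this gives the structure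
theorem and the commutativity of the derived subgroup.
-/

set_option autoImplicit false
set_option linter.style.haveILetI false
set_option linter.unusedSectionVars false

namespace CfsgLib.TwoDegrees73

open CfsgLib.Characters CfsgLib.OddOrderChar CfsgLib.CharactersDeep
open scoped ComplexConjugate commutatorElement

universe u

variable {G : Type u} [Group G] [Fintype G]

/-- All irreducible degrees are `1` or `m`. -/
def Two (G : Type u) [Group G] (m : ℕ) : Prop :=
  ∀ χ : G → ℂ, Cfsg.IsIrrCharacter G χ → χ 1 = 1 ∨ χ 1 = (m : ℂ)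

/-- A subgroup whose index is at most every non-linear degree contains the derived subgroup. -/
theorem commutator_le_of_index_le (T : Subgroup G)
    (h : ∀ (χ : G → ℂ) (d : ℕ), Cfsg.IsIrrCharacter G χ → χ 1 = d → d ≠ 1 → T.index ≤ d) :
    commutator G ≤ T := by
  classical
  set π := Cfsg.indFun T (fun _ : T => (1 : ℂ)) with hπdef
  have hπ : Cfsg.IsCharacter G π := OddOrderChar.isCharacter_indFun T isCharacter_one
  obtain ⟨c, hc⟩ := exists_nat_coeff hπ
  choose d hd0 hd using fun ψ : Cfsg.IrrCharacter G => exists_degree_pos ψ.2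
  have hπ1 : π 1 = (T.index : ℂ) := by rw [hπdef, OddOrderChar.indFun_one, mul_one]
  have hsum : ∑ χ, c χ * d χ = T.index := by
    have h1 := hπ1
    rw [hc] at h1
    simp [hd] at h1
    exact_mod_cast h1
  set e : Cfsg.IrrCharacter G := ⟨fun _ => 1, isIrr_one⟩ with he
  have hce : c e = 1 := by
    have h1 : Cfsg.classInner π (e : G → ℂ) = 1 := by
      rw [hπdef, classInner_indFun_left T _ (isClassFunction_of_isIrr e.2)]
      exact classInner_isIrr_self isIrr_one
    rw [hc, classInner_irr_coeff (fun χ => (c χ : ℂ)) e] at h1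
    exact_mod_cast h1
  have hde : d e = 1 := by
    have h1 := hd e
    simp only [he] at h1
    exact_mod_cast h1.symm
  have hlin : ∀ χ, c χ ≠ 0 → (χ : G → ℂ) 1 = 1 := by
    intro χ hcχ
    by_contra hne
    have hd1 : d χ ≠ 1 := fun e1 => hne (by rw [hd, e1, Nat.cast_one])
    have hχe : χ ≠ e := fun e1 => hne (by rw [e1])
    have h2 : c χ * d χ + c e * d e ≤ ∑ ψ, c ψ * d ψ := by
      rw [← Finset.sum_pair (f := fun ψ => c ψ * d ψ) hχe]
      exact Finset.sum_le_sum_of_subset (Finset.subset_univ _)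
    rw [hsum, hce, hde] at h2
    have h3 := h χ (d χ) χ.2 (hd χ) hd1
    have h4 : d χ ≤ c χ * d χ := Nat.le_mul_of_pos_left _ (Nat.pos_of_ne_zero hcχ)
    omega
  intro g hg
  have hπg : π g = (T.index : ℂ) := by
    rw [← hπ1, hc]
    simp only [Finset.sum_apply, Pi.smul_apply]
    refine Finset.sum_congr rfl fun χ _ => ?_
    by_cases hcχ : c χ = 0
    · simp [hcχ]
    · rw [SameDegree.linear_commutator χ.2 (hlin χ hcχ) hg]
  simp only [hπdef, Cfsg.indFun, Cfsg.extendByZero] at hπg
  rw [inv_mul_eq_iff_eq_mul₀ (Characters.subgroup_card_ne_zero T), ← Nat.cast_mul,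
    T.card_mul_index] at hπg
  have hall : ∀ x : G, x⁻¹ * g * x ∈ T := by
    by_contra hex
    push Not at hex
    obtain ⟨x, hx⟩ := hex
    have hlt : (Finset.univ.filter fun y : G => y⁻¹ * g * y ∈ T).card < Nat.card G := by
      rw [Nat.card_eq_fintype_card, ← Finset.card_univ]
      exact Finset.card_lt_card (Finset.filter_ssubset.mpr ⟨x, Finset.mem_univ _, hx⟩)
    refine hlt.ne ?_
    apply Nat.cast_injective (R := ℂ)
    rw [← hπg, ← Finset.sum_boole]
    refine Finset.sum_congr rfl fun y _ => ?_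
    by_cases hy : y⁻¹ * g * y ∈ T
    · rw [if_pos hy]
      exact (Subtype.val_injective.extend_apply (fun _ : T => (1 : ℂ)) 0 ⟨_, hy⟩).symm
    · rw [if_neg hy]
      refine ((Function.extend_apply' (f := (Subtype.val : T → G)) (fun _ : T => (1 : ℂ)) 0 _ ?_).trans
        rfl).symm
      rintro ⟨z, hz⟩
      exact hy (hz ▸ z.2)
  simpa using hall 1

section Stab

variable (N : Subgroup G) [hN : N.Normal]

/-- The stabiliser of a linear character of a normal subgroup. -/
def stab (lam : N →* ℂˣ) : Subgroup G where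
  carrier := {g | ∀ n : N, lam ⟨g * n * g⁻¹, hN.conj_mem n n.2 g⟩ = lam n}
  one_mem' n := congrArg lam (Subtype.ext (by simp))
  mul_mem' {a b} ha hb n := by
    refine Eq.trans (congrArg lam (Subtype.ext (by simp [mul_assoc]))) ((ha
      ⟨b * n * b⁻¹, hN.conj_mem n n.2 b⟩).trans (hb n))
  inv_mem' {a} ha n := by
    refine ((ha ⟨a⁻¹ * n * a⁻¹⁻¹, hN.conj_mem n n.2 a⁻¹⟩).symm).trans
      (congrArg lam (Subtype.ext ?_))
    simp [mul_assoc]

theorem mem_stab {lam : N →* ℂˣ} {g : G} :
    g ∈ stab N lam ↔ ∀ n : N, lam ⟨g * n * g⁻¹, hN.conj_mem n n.2 g⟩ = lam n := Iff.rfl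

theorem mem_stab_iff_conjBy {lam : N →* ℂˣ} {g : G} :
    g ∈ stab N lam ↔ conjBy N (fun n => (lam n : ℂ)) g = fun n => (lam n : ℂ) := by
  rw [mem_stab, funext_iff]
  exact forall_congr' fun n => Units.ext_iff

theorem index_stab_le {m : ℕ} (h2 : Two G m) (hm : 1 ≤ m) (lam : N →* ℂˣ) :
    (stab N lam).index ≤ m := by
  classical
  haveI := Fintype.ofFinite N
  obtain ⟨χ, hχ, hne⟩ := CharactersDeep.Clifford.exists_over N (isIrr_linChar lam)
  have h := clifford_degree N hχ (isIrr_linChar lam) (stab N lam)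
    (fun g => mem_stab_iff_conjBy N) hne
  obtain ⟨e, he⟩ := classInner_character_irr (isCharacter_restrict N (isCharacter_of_isIrr hχ))
    (isIrr_linChar lam)
  simp only [he, map_one, Units.val_one, mul_one] at h
  have he0 : e ≠ 0 := fun e0 => hne (by rw [he, e0, Nat.cast_zero])
  have hle : (stab N lam).index ≤ e * (stab N lam).index :=
    Nat.le_mul_of_pos_left _ (Nat.pos_of_ne_zero he0)
  rcases h2 χ hχ with h1 | h1
  · rw [h1] at h
    have : 1 = e * (stab N lam).index := by exact_mod_cast h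
    omega
  · rw [h1] at h
    have : m = e * (stab N lam).index := by exact_mod_cast h
    omega

theorem commutator_le_stab {m : ℕ} (h2 : Two G m) (hm : 1 ≤ m) (lam : N →* ℂˣ) :
    commutator G ≤ stab N lam :=
  commutator_le_of_index_le _ fun χ d hχ hd hd1 => by
    rcases h2 χ hχ with h1 | h1 <;> rw [hd] at h1
    · exact absurd (by exact_mod_cast h1) hd1
    · rw [show d = m by exact_mod_cast h1]
      exact index_stab_le N h2 hm lam

/-- Linear characters separate the elements of an abelian group. -/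
theorem eq_of_forall_hom {A : Type u} [Group A] [Finite A] [IsMulCommutative A] {a b : A}
    (h : ∀ lam : A →* ℂˣ, lam a = lam b) : a = b := by
  by_contra hne
  letI : CommGroup A := { ‹Group A› with mul_comm := mul_comm' }
  haveI : NeZero (Monoid.exponent A : ℂ) :=
    ⟨Nat.cast_ne_zero.2 Monoid.exponent_ne_zero_of_finite⟩
  obtain ⟨φ, hφ⟩ := CommGroup.exists_apply_ne_one_of_hasEnoughRootsOfUnity A ℂ
    (a := a * b⁻¹) (fun e => hne (mul_inv_eq_one.mp e))
  exact hφ (by rw [map_mul, map_inv, h, mul_inv_cancel])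

theorem mem_centralizer_of_forall_stab [IsMulCommutative N] {g : G}
    (h : ∀ lam : N →* ℂˣ, g ∈ stab N lam) : g ∈ Subgroup.centralizer (N : Set G) := by
  rw [Subgroup.mem_centralizer_iff]
  intro n hn
  have he : g * n * g⁻¹ = n := congrArg Subtype.val
    (eq_of_forall_hom (a := (⟨g * n * g⁻¹, hN.conj_mem n hn g⟩ : N)) (b := ⟨n, hn⟩)
      fun lam => h lam ⟨n, hn⟩)
  exact (mul_inv_eq_iff_eq_mul.mp he).symm

theorem commutator_le_centralizer {m : ℕ} (h2 : Two G m) (hm : 1 ≤ m) [IsMulCommutative N] :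
    commutator G ≤ Subgroup.centralizer (N : Set G) := fun _ hg =>
  mem_centralizer_of_forall_stab N fun lam => commutator_le_stab N h2 hm lam hg

end Stab

/-- An abelian group of operators of coprime order has a point whose stabiliser fixes all. -/
theorem exists_regular {X : Type*} [Group X] [Finite X] {A : Type*} [CommGroup A] [Finite A]
    (φ : X →* MulAut A) (hcop : (Nat.card X).Coprime (Nat.card A))
    (hnormal : ∀ (l : A) (x y : X), φ x l = l → φ (y * x * y⁻¹) l = l) :
    ∃ l : A, ∀ x : X, φ x l = l → ∀ μ : A, φ x μ = μ := by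
  classical
  haveI := Fintype.ofFinite X
  have happ : ∀ x y a, φ (x * y) a = φ x (φ y a) := fun x y a => by rw [map_mul]; rfl
  obtain ⟨l, hl⟩ := Finite.exists_min (fun l : A => Nat.card {x : X // φ x l = l})
  refine ⟨l, ?_⟩
  let T : Subgroup X :=
    { carrier := {x | φ x l = l}
      one_mem' := by simp
      mul_mem' := fun {a b} (ha : φ a l = l) (hb : φ b l = l) => by
        show φ (a * b) l = l
        rw [happ, hb, ha]
      inv_mem' := fun {a} (ha : φ a l = l) => by
        show φ a⁻¹ l = l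
        conv_lhs => rw [← ha]
        rw [← happ, inv_mul_cancel, map_one]
        rfl }
  have hT : ∀ x, x ∈ T ↔ φ x l = l := fun _ => Iff.rfl
  have hcopT : (Nat.card T).Coprime (Nat.card A) :=
    hcop.coprime_dvd_left (Subgroup.card_subgroup_dvd_card T)
  have hone : ∀ a : A, a ^ Nat.card T = 1 → a = 1 := fun a ha => by
    have h := pow_gcd_eq_one.mpr ⟨ha, pow_card_eq_one' (x := a)⟩
    rwa [hcopT, pow_one] at h
  let nrm : A → A := fun a => ∏ t : T, φ t a
  have hnrm_fix : ∀ (t : T) a, φ t (nrm a) = nrm a := fun t a => by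
    show φ t (∏ s : T, φ s a) = _
    rw [map_prod]
    exact Fintype.prod_equiv (Equiv.mulLeft t) _ _ fun s => (happ t s a).symm
  have hnrm_of_fix : ∀ a, (∀ t : T, φ t a = a) → nrm a = a ^ Nat.card T := fun a ha => by
    show ∏ t : T, φ t a = _
    simp [ha, Nat.card_eq_fintype_card]
  have hnrm_div : ∀ a b, nrm (a / b) = nrm a / nrm b := fun a b => by
    show ∏ t : T, φ t (a / b) = _
    simp only [map_div, Finset.prod_div_distrib]
    rfl
  have hnrm_pow : ∀ a (k : ℕ), nrm (a ^ k) = nrm a ^ k := fun a k => by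
    show ∏ t : T, φ t (a ^ k) = _
    simp only [map_pow, Finset.prod_pow]
    rfl
  intro x hx μ
  set μ₁ := μ ^ Nat.card T / nrm μ with hμ₁
  have hμ₁n : nrm μ₁ = 1 := by
    rw [hμ₁, hnrm_div, hnrm_pow, hnrm_of_fix _ fun t => hnrm_fix t μ, div_self']
  have hsub : ∀ g, φ g (l * μ₁) = l * μ₁ → φ g l = l ∧ φ g μ₁ = μ₁ := by
    intro g hg
    rw [map_mul] at hg
    have hf : φ g l / l = μ₁ / φ g μ₁ := by
      rw [div_eq_div_iff_mul_eq_mul, hg, mul_comm]
    have hfix : ∀ t : T, φ t (φ g l) = φ g l := fun t => by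
      rw [← happ, show (t : X) * g = g * (g⁻¹ * t * g⁻¹⁻¹) by group, happ,
        hnormal l t g⁻¹ t.2]
    have h1 : nrm (φ g l / l) = (φ g l / l) ^ Nat.card T :=
      hnrm_of_fix _ fun t => by rw [map_div, hfix t, t.2]
    have h2 : nrm (φ g μ₁) = 1 := by
      let e : T ≃ T :=
        { toFun := fun t => ⟨g⁻¹ * t * g⁻¹⁻¹, (hT _).mpr (hnormal l t g⁻¹ t.2)⟩
          invFun := fun t => ⟨g * t * g⁻¹, (hT _).mpr (hnormal l t g t.2)⟩
          left_inv := fun t => Subtype.ext (by group)
          right_inv := fun t => Subtype.ext (by group) }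
      have he : nrm (φ g μ₁) = φ g (nrm μ₁) := by
        show ∏ t : T, φ t (φ g μ₁) = φ g (∏ t : T, φ t μ₁)
        rw [map_prod]
        refine Fintype.prod_equiv e _ _ fun t => ?_
        rw [← happ, ← happ]
        exact congrArg (fun z => φ z μ₁) (by simp [e]; group)
      rw [he, hμ₁n, map_one]
    rw [hf, hnrm_div, hμ₁n, h2, div_one] at h1
    have hf1 : φ g l = l := div_eq_one.mp (hf.trans (hone _ h1.symm))
    exact ⟨hf1, mul_left_cancel (hf1 ▸ hg)⟩
  have hfix₁ : φ x μ₁ = μ₁ := by
    let inc : {y // φ y (l * μ₁) = l * μ₁} → {y // φ y l = l} :=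
      fun y => ⟨y.1, (hsub y.1 y.2).1⟩
    have hinj : Function.Injective inc := fun a b h => Subtype.ext (congrArg Subtype.val h :)
    obtain ⟨y, hy⟩ := (hinj.bijective_of_nat_card_le (hl (l * μ₁))).2 ⟨x, hx⟩
    have := (hsub y.1 y.2).2
    rwa [show y.1 = x from congrArg Subtype.val hy] at this
  have hfixall : ∀ t : T, φ t μ₁ = μ₁ := fun t => by
    let inc : {y // φ y (l * μ₁) = l * μ₁} → {y // φ y l = l} :=
      fun y => ⟨y.1, (hsub y.1 y.2).1⟩
    have hinj : Function.Injective inc := fun a b h => Subtype.ext (congrArg Subtype.val h :)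
    obtain ⟨y, hy⟩ := (hinj.bijective_of_nat_card_le (hl (l * μ₁))).2 ⟨t.1, t.2⟩
    have := (hsub y.1 y.2).2
    rwa [show y.1 = t.1 from congrArg Subtype.val hy] at this
  have hμ₁1 : μ₁ = 1 := hone _ (by rw [← hnrm_of_fix _ hfixall, hμ₁n])
  have hpow : μ ^ Nat.card T = nrm μ := div_eq_one.mp hμ₁1
  refine div_eq_one.mp (hone _ ?_)
  rw [div_pow, ← map_pow, hpow, hnrm_fix ⟨x, hx⟩ μ, div_self']

section Main

variable {m : ℕ}

/-- A non-central abelian normal subgroup of order prime to its index gives an abelian normal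
subgroup of index `m`. -/
theorem exists_abelian_index (h2 : Two G m) (hm : 1 ≤ m) (N : Subgroup G) [hN : N.Normal]
    [hab : IsMulCommutative N] (hcop : (Nat.card N).Coprime N.index)
    (hnc : ¬ N ≤ Subgroup.center G) :
    ∃ A : Subgroup G, A.Normal ∧ (∀ a ∈ A, ∀ b ∈ A, a * b = b * a) ∧ A.index = m := by
  classical
  haveI := Fintype.ofFinite N
  letI : CommGroup N := { (inferInstance : Group N) with mul_comm := mul_comm' }
  haveI : NeZero (Monoid.exponent N : ℂ) :=
    ⟨Nat.cast_ne_zero.2 Monoid.exponent_ne_zero_of_finite⟩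
  haveI : Finite (N →* ℂˣ) := Nat.finite_of_card_ne_zero (by
    rw [CommGroup.card_monoidHom_of_hasEnoughRootsOfUnity]; exact Nat.card_pos.ne')
  let cj : G → (N →* N) := fun g => (MulAut.conjNormal g⁻¹).toMonoidHom
  have hcj : ∀ g (n : N), ((cj g n : N) : G) = g⁻¹ * n * g := fun g n => by
    simp [cj, MulAut.conjNormal_apply]
  have hcjmul : ∀ g g', (cj g').comp (cj g) = cj (g * g') := fun g g' => by
    refine MonoidHom.ext fun n => Subtype.ext ?_
    rw [MonoidHom.comp_apply, hcj, hcj, hcj]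
    group
  have hcj1 : cj 1 = MonoidHom.id N := MonoidHom.ext fun n => Subtype.ext (by rw [hcj]; simp)
  let act : G → MulAut (N →* ℂˣ) := fun g =>
    { toFun := fun lam => lam.comp (cj g)
      invFun := fun lam => lam.comp (cj g⁻¹)
      left_inv := fun lam => by
        show (lam.comp (cj g)).comp (cj g⁻¹) = lam
        rw [MonoidHom.comp_assoc, hcjmul, inv_mul_cancel, hcj1, MonoidHom.comp_id]
      right_inv := fun lam => by
        show (lam.comp (cj g⁻¹)).comp (cj g) = lam
        rw [MonoidHom.comp_assoc, hcjmul, mul_inv_cancel, hcj1, MonoidHom.comp_id]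
      map_mul' := fun _ _ => rfl }
  let φ₀ : G →* MulAut (N →* ℂˣ) :=
    { toFun := act
      map_one' := MulEquiv.ext fun lam => by
        show lam.comp (cj 1) = lam
        rw [hcj1, MonoidHom.comp_id]
      map_mul' := fun g g' => MulEquiv.ext fun lam => by
        show lam.comp (cj (g * g')) = (lam.comp (cj g')).comp (cj g)
        rw [MonoidHom.comp_assoc, hcjmul] }
  have hker : N ≤ φ₀.ker := fun x hx => MonoidHom.mem_ker.mpr <| MulEquiv.ext fun lam =>
    MonoidHom.ext fun n => congrArg lam (Subtype.ext (by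
      rw [hcj, mul_assoc, show (n : G) * x = x * n from congrArg Subtype.val
        (mul_comm n ⟨x, hx⟩), inv_mul_cancel_left]))
  let φ := QuotientGroup.lift N φ₀ hker
  have hfix : ∀ (g : G) (lam : N →* ℂˣ), φ (g : G ⧸ N) lam = lam ↔ g ∈ stab N lam := fun g lam => by
    have e : φ (g : G ⧸ N) lam = lam.comp (cj g) := rfl
    rw [e, ← (stab N lam).inv_mem_iff, mem_stab, MonoidHom.ext_iff]
    exact forall_congr' fun n => by
      rw [MonoidHom.comp_apply]
      exact Iff.of_eq (congrArg (fun z => lam z = lam n) (Subtype.ext (by rw [hcj]; simp)))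
  have hstab : ∀ lam, (stab N lam).Normal := fun lam =>
    Subgroup.Normal.of_commutator_le _ (commutator_le_stab N h2 hm lam)
  obtain ⟨lam, hlam⟩ := exists_regular (A := N →* ℂˣ) φ (by
    rw [CommGroup.card_monoidHom_of_hasEnoughRootsOfUnity N ℂ, ← Subgroup.index_eq_card]
    exact hcop.symm) (fun l x y hx => by
      induction x using QuotientGroup.induction_on with | _ g =>
      induction y using QuotientGroup.induction_on with | _ k =>
      rw [← QuotientGroup.mk_mul, ← QuotientGroup.mk_inv, ← QuotientGroup.mk_mul, hfix]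
      exact (hstab l).conj_mem g ((hfix g l).mp hx) k)
  set T := stab N lam with hTdef
  haveI := hstab lam
  have hTC : T = Subgroup.centralizer (N : Set G) := by
    refine le_antisymm (fun g hg => mem_centralizer_of_forall_stab N fun μ =>
      (hfix g μ).mp (hlam g ((hfix g lam).mpr hg) μ)) fun g hg n => congrArg lam (Subtype.ext ?_)
    show g * n * g⁻¹ = n
    rw [← (Subgroup.mem_centralizer_iff.mp hg n n.2), mul_inv_cancel_right]
  have hNT : N ≤ T := fun x hx => (hfix x lam).mp (by
    rw [(QuotientGroup.eq_one_iff x).mpr hx, map_one]; rfl)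
  have hTtop : T.index ≠ 1 := fun h => hnc fun n hn => Subgroup.mem_center_iff.mpr fun g =>
    ((Subgroup.mem_centralizer_iff.mp (hTC ▸ (Subgroup.index_eq_one.mp h ▸ Subgroup.mem_top g) :
      g ∈ Subgroup.centralizer (N : Set G))) n hn).symm
  haveI := Fintype.ofFinite T
  haveI := Fintype.ofFinite (N.subgroupOf T)
  set N' := N.subgroupOf T with hN'
  haveI : IsMulCommutative N' := ⟨⟨fun a b => Subtype.ext (Subtype.ext
    (show ((a : T) : G) * ((b : T) : G) = ((b : T) : G) * ((a : T) : G) from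
      congrArg Subtype.val (mul_comm (⟨((a : T) : G), a.2⟩ : N) ⟨((b : T) : G), b.2⟩)))⟩⟩
  have hext : ∀ ν : N' →* ℂˣ, ∃ μ : T →* ℂˣ, ∀ n : N', μ n = ν n := by
    intro ν
    haveI : NeZero (Nat.card N') := ⟨Nat.card_pos.ne'⟩
    obtain ⟨μ, hμ, -⟩ := CharactersDeep.TransferExtend.exists_extend_same_exponent N' ν
      (fun t n => congrArg ν (Subtype.ext (Subtype.ext (by
        have ht : ((t : G)) ∈ Subgroup.centralizer (N : Set G) := hTC ▸ t.2
        show (t : G) * ((n : T) : G) * (t : G)⁻¹ = ((n : T) : G)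
        rw [← Subgroup.mem_centralizer_iff.mp ht ((n : T) : G) n.2, mul_inv_cancel_right]))))
      (o := Nat.card N') (fun n => by rw [← map_pow, pow_card_eq_one', map_one]) (by
        rw [Nat.card_congr (Subgroup.subgroupOfEquivOfLe hNT).toEquiv]
        exact hcop.symm.coprime_dvd_left (Subgroup.relIndex_dvd_index_of_normal N T))
    exact ⟨μ, hμ⟩
  let lam' : N' →* ℂˣ := lam.comp (Subgroup.subgroupOfEquivOfLe hNT).toMonoidHom
  have hlam' : onSubgroupOf N T (fun n => (lam n : ℂ)) = fun n => (lam' n : ℂ) := rfl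
  have hmain : ∀ ψ : T → ℂ, Cfsg.IsIrrCharacter T ψ →
      Cfsg.classInner (fun x : N' => ψ x) (fun n => (lam' n : ℂ)) ≠ 0 →
      (T.index : ℂ) * ψ 1 = m := by
    intro ψ hψ hne
    have h := (clifford_correspondence N T (isIrr_linChar lam) (fun g => mem_stab_iff_conjBy N) hψ
      (hlam' ▸ hne)).1
    rcases h2 _ h with h1 | h1 <;> rw [OddOrderChar.indFun_one] at h1
    · obtain ⟨d, -, hd⟩ := exists_degree_pos hψ
      rw [hd] at h1
      exact absurd (Nat.eq_one_of_mul_eq_one_right (by exact_mod_cast h1)) hTtop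
    · exact h1
  obtain ⟨l₀, hl₀⟩ := hext lam'
  have hTm : T.index = m := by
    have h := hmain _ (isIrr_linChar l₀) (by
      simp only [hl₀]
      rw [classInner_isIrr_self (isIrr_linChar lam')]
      exact one_ne_zero)
    rw [map_one, Units.val_one, mul_one] at h
    exact_mod_cast h
  have hlin : ∀ ψ : T → ℂ, Cfsg.IsIrrCharacter T ψ → ψ 1 = 1 := by
    intro ψ hψ
    obtain ⟨θ, hθ, hne⟩ := DegreeGraph.exists_under N' hψ
    obtain ⟨ν, rfl⟩ := exists_hom_of_degree_one (isCharacter_of_isIrr hθ)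
      (GaloisAverage.irr_one_eq_one hθ)
    obtain ⟨μ, hμ⟩ := hext (lam' * ν⁻¹)
    have h := hmain _ (Glauberman.isIrr_mul_hom hψ μ) (by
      convert hne using 1
      simp only [Cfsg.classInner, hμ]
      congr 1
      refine Finset.sum_congr rfl fun n _ => ?_
      have hu : conj (lam' n : ℂ) = ((lam' n)⁻¹ : ℂˣ) := by
        rw [← map_inv, ← character_inv (LinearChar.isCharacter_hom lam') n]
      have hu' : conj (ν n : ℂ) = ((ν n)⁻¹ : ℂˣ) := by
        rw [← map_inv, ← character_inv (LinearChar.isCharacter_hom ν) n]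
      rw [hu, hu', mul_assoc, ← Units.val_mul]
      congr 2
      simp [mul_comm, mul_left_comm])
    simp only [map_one, Units.val_one, mul_one, ← hTm] at h
    exact (mul_eq_left₀ (Nat.cast_ne_zero.2 T.index_ne_zero_of_finite)).mp h
  refine ⟨T, inferInstance, fun a ha b hb => ?_, hTm⟩
  have hcomm : commutator T = ⊥ := by
    by_contra hne
    obtain ⟨χ, hχ⟩ := SameDegree.exists_nonlinear hne
    exact hχ (hlin _ χ.2)
  have hmem : ⁅(⟨a, ha⟩ : T), ⟨b, hb⟩⁆ ∈ commutator T :=
    Subgroup.commutator_mem_commutator (Subgroup.mem_top _) (Subgroup.mem_top _)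
  rw [hcomm, Subgroup.mem_bot, commutatorElement_eq_one_iff_mul_comm] at hmem
  exact congrArg Subtype.val hmem

/-- The part of order prime to `m`. -/
theorem exists_coprime_normal (h2 : Two G m) (s : Finset ℕ) :
    (∀ p ∈ s, p.Prime ∧ p ∣ m) →
    ∃ N : Subgroup G, N.Normal ∧ (∀ p ∈ s, ¬ p ∣ Nat.card N) ∧
      (∀ q : ℕ, q.Prime → q ∣ N.index → q ∈ s) ∧
      ∀ K : Subgroup G, (∀ p ∈ s, ∀ L : Subgroup G, L.Normal → (∃ k, L.index = p ^ k) →
        ¬ p ∣ Nat.card L → K ≤ L) → K ≤ N := by
  induction s using Finset.induction_on with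
  | empty =>
    exact fun _ => ⟨⊤, inferInstance, by simp, fun q hq h => absurd (by simpa using h) hq.ne_one,
      fun _ _ => le_top⟩
  | @insert p s hps ih =>
    intro hs
    obtain ⟨N, hNn, hN1, hN2, hN3⟩ := ih fun q hq => hs q (Finset.mem_insert_of_mem hq)
    obtain ⟨hp, hpm⟩ := hs p (Finset.mem_insert_self _ _)
    obtain ⟨L, hLn, hLc, k, hLi⟩ := Cfsg.Agent.S4456.result p hp fun χ hχ => by
      rcases h2 _ χ.2 with h | h
      · exact absurd (DegreeGraph.charDegree_eq (d := 1) (by rw [h, Nat.cast_one])) hχ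
      · rw [DegreeGraph.charDegree_eq h]; exact hpm
    haveI := hNn
    haveI := hLn
    have hpL : ¬ p ∣ Nat.card L := (Nat.Prime.coprime_iff_not_dvd hp).mp hLc.symm
    refine ⟨N ⊓ L, inferInstance, fun q hq => ?_, fun q hq hdvd => ?_, fun K hK =>
      le_inf (hN3 K fun q hq => hK q (Finset.mem_insert_of_mem hq))
        (hK p (Finset.mem_insert_self _ _) L hLn ⟨k, hLi⟩ hpL)⟩
    · rcases Finset.mem_insert.mp hq with rfl | hq
      · exact fun h => hpL (h.trans (Subgroup.card_dvd_of_le inf_le_right))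
      · exact fun h => hN1 q hq (h.trans (Subgroup.card_dvd_of_le inf_le_left))
    · have he : (N ⊓ L).index = L.relIndex N * N.index := by
        rw [← Subgroup.relIndex_mul_index (inf_le_left : N ⊓ L ≤ N), Subgroup.inf_relIndex_left]
      rw [he] at hdvd
      rcases hq.dvd_mul.mp hdvd with h | h
      · have h' := h.trans (Subgroup.relIndex_dvd_index_of_normal L N)
        rw [hLi] at h'
        exact Finset.mem_insert.mpr
          (Or.inl ((Nat.prime_dvd_prime_iff_eq hq hp).mp (hq.dvd_of_dvd_pow h')))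
      · exact Finset.mem_insert_of_mem (hN2 q hq h)

theorem structure_two (h2 : Two G m) (hm : ∃ χ, Cfsg.IsIrrCharacter G χ ∧ χ 1 = (m : ℂ))
    (hm1 : m ≠ 1) :
    (∃ A : Subgroup G, A.Normal ∧ (∀ a ∈ A, ∀ b ∈ A, a * b = b * a) ∧ A.index = m) ∨
      ∃ p e : ℕ, p.Prime ∧ m = p ^ e ∧ ∃ P A : Subgroup G, P.Normal ∧ A.Normal ∧ IsPGroup p P ∧
        (∀ a ∈ A, ∀ b ∈ A, a * b = b * a) ∧ P ⊓ A = ⊥ ∧ P ⊔ A = ⊤ := by
  classical
  obtain ⟨χ₀, hχ₀, hχm⟩ := hm
  have hm0 : m ≠ 0 := by
    rintro rfl
    exact irr_one_ne_zero hχ₀ (by simpa using hχm)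
  obtain ⟨N, hNn, hN1, hN2, hN3⟩ := exists_coprime_normal h2 m.primeFactors fun p hp =>
    ⟨Nat.prime_of_mem_primeFactors hp, Nat.dvd_of_mem_primeFactors hp⟩
  haveI := hNn
  haveI := Fintype.ofFinite N
  have hcop : (Nat.card N).Coprime N.index :=
    Nat.coprime_of_dvd fun q hq h1 h2' => hN1 q (hN2 q hq h2') h1
  have hNab : IsMulCommutative N := by
    refine ⟨⟨fun a b => ?_⟩⟩
    have hcomm : commutator N = ⊥ := by
      by_contra hne
      obtain ⟨θ, hθ⟩ := SameDegree.exists_nonlinear hne
      obtain ⟨χ, hχ, hcon⟩ := CharactersDeep.Clifford.exists_over N θ.2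
      obtain ⟨c, -, hc⟩ := exists_degree_pos hχ
      obtain ⟨d, k, hd, hck, -, hd0⟩ := DegreeGraph.exists_ratio N hχ θ.2 hcon hc
      have hdm : d ∣ m := by
        rcases h2 χ hχ with h | h <;> rw [hc] at h
        · have hc1 : c = 1 := by exact_mod_cast h
          rw [hc1] at hck
          exact Dvd.intro k hck.symm |>.trans (one_dvd m)
        · rw [show c = m by exact_mod_cast h] at hck
          exact Dvd.intro k hck.symm
      obtain ⟨n, ρ, hρ, hρc⟩ := θ.2
      have hdN : d ∣ Nat.card N := by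
        have e := hd
        rw [← hρc, Representation.char_one] at e
        rw [← show Module.finrank ℂ (Fin n → ℂ) = d by exact_mod_cast e]
        exact Characters.finrank_dvd_card ρ
      suffices hd1 : d = 1 from hθ (by rw [hd, hd1, Nat.cast_one])
      refine Nat.eq_one_of_dvd_coprimes (Nat.coprime_of_dvd fun q hq h1 h2' => ?_) hdm hdN
      exact hN1 q (Nat.mem_primeFactors.mpr ⟨hq, h1, hm0⟩) h2'
    have hmem : ⁅a, b⁆ ∈ commutator N :=
      Subgroup.commutator_mem_commutator (Subgroup.mem_top _) (Subgroup.mem_top _)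
    rwa [hcomm, Subgroup.mem_bot, commutatorElement_eq_one_iff_mul_comm] at hmem
  by_cases hnc : N ≤ Subgroup.center G
  swap
  · exact Or.inl (exists_abelian_index h2 (Nat.pos_of_ne_zero hm0) N hcop hnc)
  right
  by_cases hpp : ∃ p, m.primeFactors = {p}
  · obtain ⟨p, hp⟩ := hpp
    have hpP : p.Prime := Nat.prime_of_mem_primeFactors (hp ▸ Finset.mem_singleton_self p)
    haveI := Fact.mk hpP
    obtain ⟨k, hk⟩ : ∃ k, N.index = p ^ k := by
      refine ⟨_, Nat.eq_prime_pow_of_unique_prime_dvd Subgroup.index_ne_zero_of_finite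
        fun {q} hq hd => ?_⟩
      simpa [hp] using hN2 q hq hd
    obtain ⟨P⟩ : Nonempty (Sylow p G) := inferInstance
    have hsup : (P : Subgroup G) ⊔ N = ⊤ := by
      rw [← Subgroup.index_eq_one]
      refine Nat.eq_one_of_dvd_coprimes ?_ (Subgroup.index_dvd_of_le le_sup_left)
        (Subgroup.index_dvd_of_le le_sup_right)
      rw [hk]
      exact ((hpP.coprime_iff_not_dvd.mpr P.not_dvd_index).pow_left k).symm
    have hPn : (P : Subgroup G).Normal := by
      rw [← Subgroup.normalizer_eq_top_iff, eq_top_iff, ← hsup, sup_le_iff]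
      exact ⟨Subgroup.le_normalizer, hnc.trans (Subgroup.center_le_normalizer _)⟩
    obtain ⟨e, he⟩ : ∃ e, m = p ^ e := ⟨_, Nat.eq_prime_pow_of_unique_prime_dvd hm0
      fun {q} hq hd => by simpa [hp] using Nat.mem_primeFactors.mpr ⟨hq, hd, hm0⟩⟩
    refine ⟨p, e, hpP, he, P, N, hPn, hNn, P.isPGroup', fun a ha b hb =>
      congrArg Subtype.val (hNab.is_comm.comm ⟨a, ha⟩ ⟨b, hb⟩), ?_, hsup⟩
    obtain ⟨j, hj⟩ := IsPGroup.iff_card.mp P.isPGroup'
    refine Subgroup.inf_eq_bot_of_coprime (hj ▸ Nat.Coprime.pow_left j ?_)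
    exact hpP.coprime_iff_not_dvd.mpr (hN1 p (hp ▸ Finset.mem_singleton_self p))
  · exfalso
    have hcommN : commutator G ≤ N := hN3 _ fun p hp L hL ⟨k, hk⟩ _ => by
      haveI := hL
      haveI := Fintype.ofFinite (G ⧸ L)
      have hpP := Nat.prime_of_mem_primeFactors hp
      have hab : commutator (G ⧸ L) = ⊥ := by
        by_contra hne
        obtain ⟨ψ, hψ⟩ := SameDegree.exists_nonlinear hne
        obtain ⟨n, ρ, hρ, hρc⟩ := ψ.2
        have hlift := isIrr_comp (QuotientGroup.mk' L) (QuotientGroup.mk'_surjective L) ψ.2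
        rcases h2 _ hlift with h | h
        · exact hψ (by simpa using h)
        · simp only [map_one] at h
          rw [← hρc, Representation.char_one] at h
          have hd : m ∣ p ^ k := by
            rw [← hk, Subgroup.index_eq_card, ← show Module.finrank ℂ (Fin n → ℂ) = m by
              exact_mod_cast h]
            exact Characters.finrank_dvd_card ρ
          refine hpp ⟨p, ?_⟩
          obtain ⟨j, -, hj⟩ := (Nat.dvd_prime_pow hpP).mp hd
          have hj0 : j ≠ 0 := by rintro rfl; exact hm1 (by simpa using hj)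
          rw [hj, Nat.primeFactors_prime_pow hj0 hpP]
      have hmap : (commutator G).map (QuotientGroup.mk' L) = ⊥ := by
        rw [← le_bot_iff, ← hab, _root_.commutator_def, Subgroup.map_commutator,
          _root_.commutator_def]
        exact Subgroup.commutator_mono le_top le_top
      rwa [← le_bot_iff, Subgroup.map_le_iff_le_comap, MonoidHom.comap_bot,
        QuotientGroup.ker_mk'] at hmap
    have hbot : commutator G = ⊥ := by
      rw [eq_bot_iff]
      intro g hg
      haveI := hNab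
      have h1 : (⟨g, hcommN hg⟩ : N) = 1 := eq_of_forall_hom fun lam => by
        haveI : NeZero (Nat.card N) := ⟨Nat.card_pos.ne'⟩
        obtain ⟨μ, hμ, -⟩ := CharactersDeep.TransferExtend.exists_extend_same_exponent N lam
          (fun x n => congrArg lam (Subtype.ext (by
            show x * n * x⁻¹ = n
            rw [Subgroup.mem_center_iff.mp (hnc n.2) x, mul_inv_cancel_right])))
          (o := Nat.card N) (fun n => by rw [← map_pow, pow_card_eq_one', map_one]) hcop.symm
        rw [← hμ, map_one]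
        exact MonoidHom.mem_ker.1 (Abelianization.commutator_subset_ker μ hg)
      exact congrArg Subtype.val h1
    obtain hlin : ∀ χ : G → ℂ, Cfsg.IsIrrCharacter G χ → χ 1 = 1 := fun χ hχ => by
      obtain ⟨θ, hθ⟩ : ∃ _ : IsMulCommutative G, True := ⟨⟨⟨fun a b => by
        have hmem : ⁅a, b⁆ ∈ commutator G :=
          Subgroup.commutator_mem_commutator (Subgroup.mem_top _) (Subgroup.mem_top _)
        rwa [hbot, Subgroup.mem_bot, commutatorElement_eq_one_iff_mul_comm] at hmem⟩⟩, trivial⟩
      exact GaloisAverage.irr_one_eq_one hχ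
    have h := hlin χ₀ hχ₀
    rw [hχm] at h
    exact hm1 (by exact_mod_cast h)

theorem commutator_abelian (h2 : Two G m) (hm : ∃ χ, Cfsg.IsIrrCharacter G χ ∧ χ 1 = (m : ℂ))
    (hm1 : m ≠ 1) : ∀ a ∈ commutator G, ∀ b ∈ commutator G, a * b = b * a := by
  classical
  rcases structure_two h2 hm hm1 with ⟨A, -, hAc, hAi⟩ | ⟨p, e, hp, -, P, A, hP, hA, hPp, hAc, hPA, hsup⟩
  · have hle : commutator G ≤ A := commutator_le_of_index_le A fun χ d hχ hd hd1 => by
      rcases h2 χ hχ with h | h <;> rw [hd] at h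
      · exact absurd (by exact_mod_cast h) hd1
      · rw [hAi, show d = m by exact_mod_cast h]
    exact fun a ha b hb => hAc a (hle ha) b (hle hb)
  haveI := Fact.mk hp
  haveI := hP
  haveI := hA
  haveI := hPp.isNilpotent
  obtain ⟨χ₀, hχ₀, hχm⟩ := hm
  have hm0 : m ≠ 0 := by
    rintro rfl
    exact irr_one_ne_zero hχ₀ (by simpa using hχm)
  obtain ⟨M, -, hM⟩ := Finite.exists_le_maximal
    (p := fun M : Subgroup P => M.Normal ∧ IsMulCommutative M) (a := ⊥)
    ⟨inferInstance, inferInstance⟩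
  haveI := hM.prop.1
  haveI := hM.prop.2
  have hC : Subgroup.centralizer (M : Set P) = M := Solvable.centralizer_eq_of_maximal_abelian_normal
    fun K hK hKc hle => le_antisymm (hM.2 ⟨hK, hKc⟩ hle) hle
  set MG := M.map (P : Subgroup G).subtype with hMG
  have hcent : ∀ x ∈ P, ∀ a ∈ A, x * a = a * x := fun x hx a ha =>
    Subgroup.commute_of_normal_of_disjoint P A hP hA (disjoint_iff.mpr hPA) x a hx ha
  haveI : MG.Normal := by
    rw [← Subgroup.normalizer_eq_top_iff, eq_top_iff, ← hsup, sup_le_iff]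
    constructor <;> intro g hg <;> rw [Subgroup.mem_normalizer_iff] <;> intro h
    · constructor
      · rintro ⟨y, hy, rfl⟩
        exact ⟨⟨g, hg⟩ * y * ⟨g, hg⟩⁻¹, hM.prop.1.conj_mem y hy _, rfl⟩
      · rintro ⟨y, hy, hye⟩
        refine ⟨⟨g, hg⟩⁻¹ * y * ⟨g, hg⟩, by simpa using hM.prop.1.conj_mem y hy ⟨g, hg⟩⁻¹, ?_⟩
        simp only [map_mul, map_inv, hye, Subgroup.coe_subtype]
        group
    · constructor
      · rintro ⟨y, hy, rfl⟩
        refine ⟨y, hy, ?_⟩
        show (y : G) = g * y * g⁻¹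
        rw [← hcent y y.2 g hg, mul_inv_cancel_right]
      · rintro ⟨y, hy, hye⟩
        refine ⟨y, hy, ?_⟩
        show (y : G) = h
        have h1 : (y : G) = g * h * g⁻¹ := hye
        calc (y : G) = g⁻¹ * (y * g) := by rw [hcent y y.2 g hg]; group
          _ = h := by rw [h1]; group
  haveI : IsMulCommutative MG := Subgroup.map_isMulCommutative M _
  have hle : commutator G ≤ MG := by
    intro g hg
    have hgP : g ∈ P := by
      have hq : ∀ x : G ⧸ P, ∃ a ∈ A, (a : G ⧸ P) = x := by
        intro x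
        induction x using QuotientGroup.induction_on with | _ y =>
        obtain ⟨z, hz, a, ha, rfl⟩ := Subgroup.mem_sup_of_normal_left.mp
          (hsup ▸ Subgroup.mem_top y : y ∈ P ⊔ A)
        exact ⟨a, ha, by rw [QuotientGroup.mk_mul, (QuotientGroup.eq_one_iff z).mpr hz, one_mul]⟩
      refine (show commutator G ≤ P from ?_) hg
      rw [_root_.commutator_def, Subgroup.commutator_le]
      intro x _ y _
      obtain ⟨a, ha, hax⟩ := hq x
      obtain ⟨b, hb, hby⟩ := hq y
      rw [← QuotientGroup.eq_one_iff, ← QuotientGroup.mk'_apply, map_commutatorElement,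
        commutatorElement_eq_one_iff_mul_comm, QuotientGroup.mk'_apply, QuotientGroup.mk'_apply,
        ← hax, ← hby, ← QuotientGroup.mk_mul, ← QuotientGroup.mk_mul, hAc a ha b hb]
    have hc : (⟨g, hgP⟩ : P) ∈ Subgroup.centralizer (M : Set P) := by
      rw [Subgroup.mem_centralizer_iff]
      intro y hy
      exact Subtype.ext (Subgroup.mem_centralizer_iff.mp
        (commutator_le_centralizer MG h2 (Nat.pos_of_ne_zero hm0) hg) y ⟨y, hy, rfl⟩)
    rw [hC] at hc
    exact ⟨_, hc, rfl⟩
  exact fun a ha b hb => congrArg Subtype.val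
    ((inferInstance : IsMulCommutative MG).is_comm.comm ⟨a, hle ha⟩ ⟨b, hle hb⟩)

theorem two_of_degrees {m : ℕ}
    (hcd : ∀ χ : Cfsg.IrrCharacter G, Cfsg.charDegree (χ : G → ℂ) = 1 ∨
      Cfsg.charDegree (χ : G → ℂ) = m) : Two G m := fun χ hχ => by
  obtain ⟨d, -, hd⟩ := exists_degree_pos hχ
  have := hcd ⟨χ, hχ⟩
  rw [show Cfsg.charDegree χ = d from DegreeGraph.charDegree_eq hd] at this
  rcases this with h | h <;> subst h <;> simp [hd]

end Main

end CfsgLib.TwoDegrees73
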